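import Mathlib

/-!
# Groups with a fixed-point-free automorphism of order three have class at most two (2-groups)

Neumann's `2`-Engel computation followed by Levi's argument.
-/

set_option autoImplicit false
set_option linter.unusedSectionVars false
set_option linter.unusedVariables false
set_option linter.style.haveILetI false

namespace Cfsg.Agent.Lib.TwoFusion.Hyp

open scoped commutatorElement

variable {T : Type*} [Group T]

section Engel

/-- `2`-Engel hypothesis. -/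
def TwoEngel (T : Type*) [Group T] : Prop := ∀ s k : T, Commute (k * s * k⁻¹) s

variable (hE : TwoEngel T)
include hE

lemma TwoEngel.conj_comm (s g h : T) : Commute (g * s * g⁻¹) (h * s * h⁻¹) := by
  have h1 := hE s (h⁻¹ * g)
  have h2 := h1.eq
  show (g * s * g⁻¹) * (h * s * h⁻¹) = (h * s * h⁻¹) * (g * s * g⁻¹)
  have e1 : (g * s * g⁻¹) * (h * s * h⁻¹) = h * (((h⁻¹ * g) * s * (h⁻¹ * g)⁻¹) * s) * h⁻¹ := by group
  have e2 : (h * s * h⁻¹) * (g * s * g⁻¹) = h * (s * ((h⁻¹ * g) * s * (h⁻¹ * g)⁻¹)) * h⁻¹ := by group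
  rw [e1, e2, h2]

lemma TwoEngel.cm_left (x y : T) : Commute ⁅x, y⁆ x := by
  have h1 := hE x y
  have e : ⁅x, y⁆ = x * (y * x * y⁻¹)⁻¹ := by rw [commutatorElement_def]; group
  rw [e]
  exact (Commute.refl x).mul_left h1.inv_left

lemma TwoEngel.cm_right (x y : T) : Commute ⁅x, y⁆ y := by
  have h1 := hE y x
  have e : ⁅x, y⁆ = (x * y * x⁻¹) * y⁻¹ := by rw [commutatorElement_def]
  rw [e]
  exact h1.mul_left (Commute.refl y).inv_left

/-- two commutators with a common entry commute -/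
lemma TwoEngel.cm_cm (x y z : T) : Commute ⁅x, y⁆ ⁅x, z⁆ := by
  have e1 : ⁅x, y⁆ = x * (y * x * y⁻¹)⁻¹ := by rw [commutatorElement_def]; group
  have e2 : ⁅x, z⁆ = x * (z * x * z⁻¹)⁻¹ := by rw [commutatorElement_def]; group
  rw [e1, e2]
  have hxx : Commute x x := Commute.refl x
  have h1 : Commute (y * x * y⁻¹) (z * x * z⁻¹) := hE.conj_comm x y z
  have h2 : Commute (y * x * y⁻¹) x := hE x y
  have h3 : Commute (z * x * z⁻¹) x := hE x z
  apply Commute.mul_left
  · exact Commute.mul_right hxx h3.symm.inv_right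
  · apply Commute.inv_left
    exact Commute.mul_right h2 h1.inv_right

/-- `⁅y, ⁅x, z⁆⁆` commutes with `x`. -/
lemma TwoEngel.tau_left (x y z : T) : Commute ⁅y, ⁅x, z⁆⁆ x := by
  set c := ⁅x, z⁆ with hc
  have h1 : Commute c x := hE.cm_left x z
  have e2 : y * c * y⁻¹ = (y * x * y⁻¹) * ((y * z) * x * (y * z)⁻¹)⁻¹ := by
    rw [hc, commutatorElement_def]; group
  have h3 : Commute (y * c * y⁻¹) x := by
    rw [e2]
    apply Commute.mul_left
    · exact hE x y
    · exact (hE x (y * z)).inv_left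
  have e : ⁅y, c⁆ = (y * c * y⁻¹) * c⁻¹ := by rw [commutatorElement_def]
  rw [e]
  exact h3.mul_left h1.inv_left

lemma TwoEngel.inv_cm (y c : T) : ⁅y, c⁻¹⁆ = ⁅y, c⁆⁻¹ := by
  have h : Commute (y * c * y⁻¹) c := hE c y
  have h2 := h.inv_left.eq
  have e1 : ⁅y, c⁻¹⁆ = (y * c * y⁻¹)⁻¹ * c := by rw [commutatorElement_def]; group
  have e2 : ⁅y, c⁆⁻¹ = c * (y * c * y⁻¹)⁻¹ := by rw [commutatorElement_def]; group
  rw [e1, e2, h2]

/-- `⁅y, ⁅x, z⁆⁆` commutes with `z`. -/
lemma TwoEngel.tau_last (x y z : T) : Commute ⁅y, ⁅x, z⁆⁆ z := by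
  have h := hE.tau_left z y x
  have e : ⁅z, x⁆ = ⁅x, z⁆⁻¹ := (commutatorElement_inv x z).symm
  rw [e, hE.inv_cm] at h
  exact (Commute.inv_left_iff).mp h

/-- `⁅y, ⁅x, z⁆⁆` commutes with `y`. -/
lemma TwoEngel.tau_first (x y z : T) : Commute ⁅y, ⁅x, z⁆⁆ y := hE.cm_left y _

lemma TwoEngel.tau_cm (x y z : T) (w : T) (h1 : Commute w y) (h2 : Commute w z) : Commute w ⁅y, z⁆ := by
  rw [commutatorElement_def]
  exact ((h1.mul_right h2).mul_right h1.inv_right).mul_right h2.inv_right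

/-- antisymmetry in the first two variables -/
lemma TwoEngel.tau_anti (x y z : T) : ⁅x, ⁅y, z⁆⁆ * ⁅y, ⁅x, z⁆⁆ = 1 := by
  set a := ⁅x, ⁅y, z⁆⁆ with ha
  set b := ⁅y, ⁅x, z⁆⁆ with hb
  set c := ⁅y, z⁆ with hc
  set d := ⁅x, z⁆ with hd
  have hax : Commute a x := hE.cm_left x c
  have hay : Commute a y := hE.tau_left y x z
  have hbx : Commute b x := hE.tau_left x y z
  have hby : Commute b y := hE.cm_left y d
  have hbz : Commute b z := hE.tau_last x y z
  have hcy : Commute c y := hE.cm_left y z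
  have hdx : Commute d x := hE.cm_left x z
  have hbc : Commute b c := hE.tau_cm x y z b hby hbz
  -- expansion of `⁅x y, z⁆`
  have e1 : x * c * x⁻¹ = a * c := by
    rw [ha, commutatorElement_def x c]; group
  have e2 : y * d * y⁻¹ = b * d := by
    rw [hb, commutatorElement_def y d]; group
  have e3 : ⁅x * y, z⁆ = a * (c * d) := by
    have : ⁅x * y, z⁆ = (x * c * x⁻¹) * d := by
      rw [hc, hd]; simp only [commutatorElement_def]; group
    rw [this, e1, mul_assoc]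
  have h1 : Commute ⁅x * y, z⁆ (x * y) := hE.cm_left _ _
  rw [e3] at h1
  have hau : Commute a (x * y) := hax.mul_right hay
  -- conjugate `c * d` by `x * y`
  have h2 : (x * y) * (c * d) * (x * y)⁻¹ = c * d := by
    have h3 := h1.eq
    have h4 : (a * (c * d)) * (x * y) = a * ((c * d) * (x * y)) := by group
    have h5 : (x * y) * (a * (c * d)) = a * ((x * y) * (c * d)) := by
      rw [← mul_assoc, ← hau.eq, mul_assoc]
    rw [h4, h5] at h3
    have h6 := mul_left_cancel h3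
    rw [← h6]; group
  have e4 : (x * y) * c * (x * y)⁻¹ = a * c := by
    have : (x * y) * c * (x * y)⁻¹ = x * (y * c * y⁻¹) * x⁻¹ := by group
    rw [this]
    have : y * c * y⁻¹ = c := by rw [← hcy.eq]; group
    rw [this, e1]
  have e5 : (x * y) * d * (x * y)⁻¹ = b * d := by
    have : (x * y) * d * (x * y)⁻¹ = x * (y * d * y⁻¹) * x⁻¹ := by group
    rw [this, e2]
    have h7 : x * d * x⁻¹ = d := by rw [← hdx.eq]; group
    have : x * (b * d) * x⁻¹ = (x * b * x⁻¹) * (x * d * x⁻¹) := by group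
    rw [this, h7]
    have h8 : x * b * x⁻¹ = b := by rw [← hbx.eq]; group
    rw [h8]
  have e6 : (x * y) * (c * d) * (x * y)⁻¹ = (a * c) * (b * d) := by
    rw [← e4, ← e5]; group
  rw [e6] at h2
  have h9 : (a * c) * (b * d) = (a * b) * (c * d) := by
    calc (a * c) * (b * d) = a * (c * b) * d := by group
      _ = a * (b * c) * d := by rw [hbc.eq]
      _ = (a * b) * (c * d) := by group
  rw [h9] at h2
  exact mul_eq_right.mp h2

lemma TwoEngel.hw (x y z : T) :
    ⁅⁅x, y⁆, y * z * y⁻¹⁆ * ⁅⁅y, z⁆, z * x * z⁻¹⁆ * ⁅⁅z, x⁆, x * y * x⁻¹⁆ = 1 := by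
  simp only [commutatorElement_def]
  group

/-- Simplification of the Hall--Witt terms. -/
lemma TwoEngel.hw_term (x y z : T) : ⁅⁅x, y⁆, y * z * y⁻¹⁆ = ⁅z, ⁅x, y⁆⁆⁻¹ := by
  set c := ⁅x, y⁆ with hc
  have e0 : y * z * y⁻¹ = ⁅y, z⁆ * z := by rw [commutatorElement_def]; group
  have e1 : c = ⁅y, x⁆⁻¹ := (commutatorElement_inv y x).symm
  have h1 : Commute c ⁅y, z⁆ := by
    rw [e1]
    exact (hE.cm_cm y x z).inv_left
  -- `⁅c, z⁆` commutes with `y, z`
  have h2 : Commute ⁅c, z⁆ z := hE.cm_right c z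
  have e2 : ⁅c, z⁆ = ⁅z, c⁆⁻¹ := (commutatorElement_inv z c).symm
  have h3 : Commute ⁅z, c⁆ y := hE.tau_last x z y
  have h4 : Commute ⁅c, z⁆ y := by rw [e2]; exact h3.inv_left
  have h5 : Commute ⁅c, z⁆ ⁅y, z⁆ := hE.tau_cm x y z _ h4 h2
  rw [e0, ← e2]
  have e3 : ⁅c, ⁅y, z⁆ * z⁆ = ⁅y, z⁆ * ⁅c, z⁆ * ⁅y, z⁆⁻¹ := by
    have h6 := h1.eq
    simp only [commutatorElement_def] at h6 ⊢
    set w := y * z * y⁻¹ * z⁻¹ with hw
    calc c * (w * z) * c⁻¹ * (w * z)⁻¹ = (c * w) * z * c⁻¹ * z⁻¹ * w⁻¹ := by group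
      _ = (w * c) * z * c⁻¹ * z⁻¹ * w⁻¹ := by rw [h6]
      _ = w * (c * z * c⁻¹ * z⁻¹) * w⁻¹ := by group
  rw [e3, h5.symm.eq]
  group

/-- Levi: triple commutators have exponent dividing three. -/
lemma TwoEngel.tau_cube (x y z : T) : ⁅x, ⁅y, z⁆⁆ ^ 3 = 1 := by
  have h := hE.hw x y z
  rw [hE.hw_term, hE.hw_term, hE.hw_term] at h
  -- all three are equal
  have e1 : ⁅y, ⁅z, x⁆⁆ = ⁅x, ⁅y, z⁆⁆ := by
    have h1 := hE.tau_anti x y z
    have e : ⁅z, x⁆ = ⁅x, z⁆⁻¹ := (commutatorElement_inv x z).symm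
    rw [e, hE.inv_cm]
    exact (eq_inv_of_mul_eq_one_right h1).symm ▸ (by group)
  have e2 : ⁅z, ⁅x, y⁆⁆ = ⁅x, ⁅y, z⁆⁆ := by
    have h1 := hE.tau_anti z x y
    have e : ⁅z, y⁆ = ⁅y, z⁆⁻¹ := (commutatorElement_inv y z).symm
    rw [e, hE.inv_cm] at h1
    have h2 : ⁅z, ⁅x, y⁆⁆ = (⁅x, ⁅y, z⁆⁆⁻¹)⁻¹ := eq_inv_of_mul_eq_one_left h1
    rw [h2, inv_inv]
  rw [e1, e2] at h
  set a := ⁅x, ⁅y, z⁆⁆
  have h3 : a⁻¹ * a⁻¹ * a⁻¹ = (a ^ 3)⁻¹ := by group
  rw [h3] at h
  exact inv_eq_one.mp h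

end Engel

/-- A fixed-point-free automorphism of order (dividing) three of a finite `2`-group. -/
structure Fpf3 (α : MulAut T) : Prop where
  fin : Finite T
  p2 : IsPGroup 2 T
  cube : ∀ x : T, α (α (α x)) = x
  fpf : ∀ x : T, α x = x → x = 1

variable {α : MulAut T}

namespace Fpf3

lemma surj1 (S : Fpf3 α) (w : T) : ∃ g : T, g⁻¹ * α g = w := by
  haveI := S.fin
  have hinj : Function.Injective (fun g : T => g⁻¹ * α g) := by
    intro g h hgh
    have hgh' : g⁻¹ * α g = h⁻¹ * α h := hgh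
    have e : α (h * g⁻¹) = h * g⁻¹ := by
      rw [map_mul, map_inv]
      have : h * g⁻¹ * (α g * (α g)⁻¹) = h * (g⁻¹ * α g) * (α g)⁻¹ := by group
      rw [mul_inv_cancel, mul_one] at this
      rw [this, hgh']
      group
    have h1 := S.fpf _ e
    have : h = g := mul_inv_eq_one.mp h1
    exact this.symm
  exact (Finite.injective_iff_surjective.mp hinj) w

lemma fpf2 (S : Fpf3 α) (x : T) (h : α (α x) = x) : x = 1 := by
  apply S.fpf
  have := S.cube x
  rw [h] at this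
  exact this

lemma surj2 (S : Fpf3 α) (w : T) : ∃ g : T, g * (α (α g))⁻¹ = w := by
  haveI := S.fin
  have hinj : Function.Injective (fun g : T => g * (α (α g))⁻¹) := by
    intro g h hgh
    have hgh' : g * (α (α g))⁻¹ = h * (α (α h))⁻¹ := hgh
    have e : α (α (h⁻¹ * g)) = h⁻¹ * g := by
      simp only [map_mul, map_inv]
      have h2 : g = h * (α (α h))⁻¹ * α (α g) := by
        rw [← hgh']; group
      calc (α (α h))⁻¹ * α (α g) = h⁻¹ * (h * (α (α h))⁻¹ * α (α g)) := by group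
        _ = h⁻¹ * g := by rw [← h2]
    have h1 := S.fpf2 _ e
    exact (inv_mul_eq_one.mp h1).symm
  exact (Finite.injective_iff_surjective.mp hinj) w

/-- the norm is trivial -/
lemma norm (S : Fpf3 α) (x : T) : x * α x * α (α x) = 1 := by
  obtain ⟨g, rfl⟩ := S.surj1 x
  simp only [map_mul, map_inv, S.cube]
  group

lemma third (S : Fpf3 α) (x : T) : α (α x) = (x * α x)⁻¹ := eq_inv_of_mul_eq_one_right (S.norm x)

lemma norm' (S : Fpf3 α) (x : T) : α x * α (α x) * x = 1 := by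
  have := S.norm (α x)
  rwa [S.cube] at this

lemma norm'' (S : Fpf3 α) (x : T) : α (α x) * x * α x = 1 := by
  have := S.norm' (α x)
  rwa [S.cube] at this

/-- The basic relation. -/
lemma rel (S : Fpf3 α) (x y : T) : x * y * α x * α y = y * α y * x * α x := by
  have h := S.norm (x * y)
  simp only [map_mul, S.third x, S.third y] at h
  have e : x * y * (α x * α y) * ((x * α x)⁻¹ * (y * α y)⁻¹) * (y * α y * x * α x) = x * y * α x * α y := by
    group
  rw [h, one_mul] at e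
  exact e.symm

lemma comm_map (S : Fpf3 α) (x : T) : Commute x (α x) := by
  have h := S.rel x (α x)
  have h1 := S.norm' x
  have h2 : x * α x * α x * α (α x) = x * α x * x⁻¹ := by
    have : α x * α (α x) = x⁻¹ := eq_inv_of_mul_eq_one_left h1
    rw [mul_assoc, this]
  have h3 : α x * α (α x) * x * α x = α x := by
    rw [h1, one_mul]
  rw [h2, h3] at h
  show x * α x = α x * x
  calc x * α x = (x * α x * x⁻¹) * x := by group
    _ = α x * x := by rw [h]

lemma relW (S : Fpf3 α) (s z : T) : α s * z * α z * s = z * s * α s * α z := by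
  have h := S.rel (α s) ((α s)⁻¹ * z)
  simp only [map_mul, map_inv] at h
  have h3 : α s * α (α s) * s = 1 := S.norm' s
  have h2 : (α (α s))⁻¹ = s * α s := by
    rw [S.third s, inv_inv]
  have e1 : α s * ((α s)⁻¹ * z) * α (α s) * ((α (α s))⁻¹ * α z) = z * α z := by group
  rw [e1] at h
  calc α s * z * α z * s = α s * (z * α z) * s := by group
    _ = α s * ((α s)⁻¹ * z * ((α (α s))⁻¹ * α z) * α s * α (α s)) * s := by rw [h]
    _ = z * (α (α s))⁻¹ * α z * (α s * α (α s) * s) := by group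
    _ = z * (s * α s) * α z := by rw [h3, h2, mul_one]
    _ = z * s * α s * α z := by group

/-- Neumann's key step. -/
lemma engel0 (S : Fpf3 α) (s k : T) : Commute (k⁻¹ * s * k) (α (α s)) := by
  obtain ⟨g, rfl⟩ := S.surj2 k
  set k := g * (α (α g))⁻¹ with hk
  set h' := α g * (α (α g))⁻¹ with hh'
  have hak : α h' = k⁻¹ := by
    rw [hh', map_mul, map_inv, S.cube, hk]
    group
  set B := k⁻¹ * s * k with hB
  set D := h'⁻¹ * α s * h' with hD
  set E := α (α s) with hE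
  have hN : B * D * E = 1 := by
    have h := S.norm (g⁻¹ * s * g)
    simp only [map_mul, map_inv] at h
    have e : B * D * E = α (α g) * (g⁻¹ * s * g * (( α g)⁻¹ * α s * α g) *
        ((α (α g))⁻¹ * α (α s) * α (α g))) * (α (α g))⁻¹ := by
      rw [hB, hD, hE, hk, hh']
      group
    rw [e, h]
    group
  have hX : D * B * E = 1 := by
    have h := S.relW s h'
    rw [hak] at h
    have e : D * B = s * α s := by
      rw [hD, hB]
      have h5 : α s * h' * k⁻¹ * s = h' * s * α s * k⁻¹ := h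
      calc h'⁻¹ * α s * h' * (k⁻¹ * s * k) = h'⁻¹ * (α s * h' * k⁻¹ * s) * k := by group
        _ = h'⁻¹ * (h' * s * α s * k⁻¹) * k := by rw [h5]
        _ = s * α s := by group
    rw [e]
    exact S.norm s
  -- conclude
  have h1 : B * E = D⁻¹ := by
    have : D * (B * E) = 1 := by rw [← mul_assoc]; exact hX
    exact eq_inv_of_mul_eq_one_right this
  have h2 : E * B = D⁻¹ := by
    have : E * B * D = 1 := by
      have h3 : B * (D * E) = 1 := by rw [← mul_assoc]; exact hN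
      have h4 := mul_inv_cancel B
      have h5 : D * E = B⁻¹ := eq_inv_of_mul_eq_one_right h3
      calc E * B * D = E * (B * D) := by group
        _ = E * (E⁻¹) := by
          have : B * D = E⁻¹ := eq_inv_of_mul_eq_one_left hN
          rw [this]
        _ = 1 := mul_inv_cancel E
    exact eq_inv_of_mul_eq_one_left this
  show B * E = E * B
  rw [h1, h2]

/-- Neumann: the group is `2`-Engel. -/
theorem twoEngel (S : Fpf3 α) : TwoEngel T := by
  intro s k
  have h1 : Commute (k * s * k⁻¹) (α (α s)) := by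
    have := S.engel0 s k⁻¹
    simpa using this
  have h2 : Commute (k * s * k⁻¹) (α s) := by
    have h3 := S.engel0 (α s) k
    rw [S.cube] at h3
    -- `k⁻¹ αs k` commutes with `s`
    have h4 := h3.eq
    show k * s * k⁻¹ * α s = α s * (k * s * k⁻¹)
    have e : k⁻¹ * α s * k * s = s * (k⁻¹ * α s * k) := h4
    calc k * s * k⁻¹ * α s = k * (s * (k⁻¹ * α s * k)) * k⁻¹ := by group
      _ = k * (k⁻¹ * α s * k * s) * k⁻¹ := by rw [e]
      _ = α s * (k * s * k⁻¹) := by group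
  have h3 : Commute (k * s * k⁻¹) s⁻¹ := by
    have e : s⁻¹ = α s * α (α s) := (eq_inv_of_mul_eq_one_left (S.norm' s)).symm
    rw [e]
    exact h2.mul_right h1
  exact (Commute.inv_right_iff).mp h3

/-- **Class two.** -/
theorem tau_eq_one (S : Fpf3 α) (x y z : T) : ⁅x, ⁅y, z⁆⁆ = 1 := by
  have h := S.twoEngel.tau_cube x y z
  obtain ⟨k, hk⟩ := S.p2 ⁅x, ⁅y, z⁆⁆
  have h1 := orderOf_dvd_of_pow_eq_one h
  have h2 := orderOf_dvd_of_pow_eq_one hk
  have h3 : orderOf ⁅x, ⁅y, z⁆⁆ ∣ Nat.gcd 3 (2 ^ k) := Nat.dvd_gcd h1 h2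
  have h4 : Nat.gcd 3 (2 ^ k) = 1 := by
    apply Nat.Coprime.pow_right
    norm_num
  rw [h4] at h3
  exact orderOf_eq_one_iff.mp (Nat.dvd_one.mp h3)

lemma cm_comm (S : Fpf3 α) (x y z : T) : x * ⁅y, z⁆ = ⁅y, z⁆ * x := by
  have h := S.tau_eq_one x y z
  exact commutatorElement_eq_one_iff_mul_comm.mp h

lemma cm_mul_left (S : Fpf3 α) (s t w : T) : ⁅s * t, w⁆ = ⁅s, w⁆ * ⁅t, w⁆ := by
  have hc := S.cm_comm s t w
  have hc2 := S.cm_comm ⁅s, w⁆ t w
  calc ⁅s * t, w⁆ = s * ⁅t, w⁆ * s⁻¹ * ⁅s, w⁆ := by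
        simp only [commutatorElement_def]; group
    _ = ⁅t, w⁆ * ⁅s, w⁆ := by rw [hc]; group
    _ = ⁅s, w⁆ * ⁅t, w⁆ := hc2.symm

lemma cm_swap (s t : T) : ⁅t, s⁆ = ⁅s, t⁆⁻¹ := (commutatorElement_inv s t).symm

lemma cm_mul_right (S : Fpf3 α) (w s t : T) : ⁅w, s * t⁆ = ⁅w, s⁆ * ⁅w, t⁆ := by
  rw [cm_swap (s * t) w, S.cm_mul_left, cm_swap s w, cm_swap t w, mul_inv_rev]
  have := S.cm_comm ⁅s, w⁆⁻¹ w t
  rw [cm_swap t w] at this
  exact this.symm

lemma cm_inv_left (S : Fpf3 α) (s w : T) : ⁅s⁻¹, w⁆ = ⁅s, w⁆⁻¹ := by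
  have h := S.cm_mul_left s s⁻¹ w
  rw [mul_inv_cancel, commutatorElement_one_left] at h
  exact eq_inv_of_mul_eq_one_right h.symm

lemma cm_inv_right (S : Fpf3 α) (s w : T) : ⁅w, s⁻¹⁆ = ⁅w, s⁆⁻¹ := by
  have h := S.cm_mul_right w s s⁻¹
  rw [mul_inv_cancel, commutatorElement_one_right] at h
  exact eq_inv_of_mul_eq_one_right h.symm

lemma cm_map (s t : T) : α ⁅s, t⁆ = ⁅α s, α t⁆ := map_commutatorElement α s t

/-- `⁅α s, t⁆ = ⁅s, α t⁆` -/
lemma cm_map_left (S : Fpf3 α) (s t : T) : ⁅α s, t⁆ = ⁅s, α t⁆ := by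
  have h : ⁅s * t, α (s * t)⁆ = 1 := commutatorElement_eq_one_iff_mul_comm.mpr (S.comm_map (s * t)).eq
  rw [map_mul, S.cm_mul_right, S.cm_mul_left, S.cm_mul_left,
    commutatorElement_eq_one_iff_mul_comm.mpr (S.comm_map s).eq,
    commutatorElement_eq_one_iff_mul_comm.mpr (S.comm_map t).eq, one_mul, mul_one] at h
  rw [cm_swap t (α s)]
  exact (eq_inv_of_mul_eq_one_right h).symm

/-- `⁅α s, t⁆ = α² ⁅s, t⁆` -/
lemma cm_map2 (S : Fpf3 α) (s t : T) : ⁅α s, t⁆ = α (α ⁅s, t⁆) := by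
  have h : ⁅s * α s * α (α s), t⁆ = 1 := by
    rw [S.norm, commutatorElement_one_left]
  rw [S.cm_mul_left, S.cm_mul_left, S.cm_map_left (α s) t, ← cm_map] at h
  -- `A * B * α A = 1`
  set A := ⁅s, t⁆
  set B := ⁅α s, t⁆
  have hAB : B * α A = A⁻¹ := by
    have : A * (B * α A) = 1 := by rw [← mul_assoc]; exact h
    exact eq_inv_of_mul_eq_one_right this
  have hN := S.norm A
  have hB : B = A⁻¹ * (α A)⁻¹ := by
    rw [← hAB]; group
  have hc : A * α A = α A * A := by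
    have := S.cm_comm (α A) s t
    exact this.symm
  have e2 := S.third A
  rw [e2, hB, hc, mul_inv_rev]

/-- `⁅s, α t⁆ = α² ⁅s, t⁆` -/
lemma cm_map_right (S : Fpf3 α) (s t : T) : ⁅s, α t⁆ = α (α ⁅s, t⁆) := by
  rw [← S.cm_map_left, S.cm_map2]

/-- The square of a product. -/
lemma sq_mul (S : Fpf3 α) (x y : T) : (x * y) * (x * y) = (x * x) * (y * y) * ⁅y, x⁆ := by
  have hc := S.cm_comm x y x
  have hc2 := S.cm_comm y y x
  have e : y * x = ⁅y, x⁆ * (x * y) := by
    rw [commutatorElement_def]; group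
  calc (x * y) * (x * y) = x * (y * x) * y := by group
    _ = x * (⁅y, x⁆ * (x * y)) * y := by rw [← e]
    _ = (x * ⁅y, x⁆) * (x * y) * y := by group
    _ = (⁅y, x⁆ * x) * (x * y) * y := by rw [hc]
    _ = ⁅y, x⁆ * ((x * x) * (y * y)) := by group
    _ = (x * x) * (y * y) * ⁅y, x⁆ := by rw [S.cm_comm _ y x]

/-- Coprime action: a coset fixed by `α` has a representative in the subgroup. -/
theorem mem_of_fixed_mod (S : Fpf3 α) (N : Subgroup T) (hN : ∀ n ∈ N, α n ∈ N) {x : T}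
    (hx : x⁻¹ * α x ∈ N) : x ∈ N := by
  haveI := S.fin
  have hinj : Function.Injective (fun m : N => (⟨m.1⁻¹ * α m.1, N.mul_mem (N.inv_mem m.2) (hN _ m.2)⟩ : N)) := by
    intro m n hmn
    have h1 : m.1⁻¹ * α m.1 = n.1⁻¹ * α n.1 := congrArg Subtype.val hmn
    have e : α (n.1 * m.1⁻¹) = n.1 * m.1⁻¹ := by
      rw [map_mul, map_inv]
      have : n.1 * (m.1⁻¹ * α m.1) * (α m.1)⁻¹ = n.1 * m.1⁻¹ := by group
      rw [← this, h1]
      group
    have h2 := S.fpf _ e
    exact Subtype.ext (mul_inv_eq_one.mp h2).symm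
  obtain ⟨m, hm⟩ := (Finite.injective_iff_surjective.mp hinj) ⟨x⁻¹ * α x, hx⟩
  have h1 : m.1⁻¹ * α m.1 = x⁻¹ * α x := congrArg Subtype.val hm
  have e : α (x * m.1⁻¹) = x * m.1⁻¹ := by
    rw [map_mul, map_inv]
    have : x * (x⁻¹ * α x) * (α m.1)⁻¹ = α x * (α m.1)⁻¹ := by group
    rw [← this, ← h1]
    group
  have h2 := S.fpf _ e
  have : x = m.1 := mul_inv_eq_one.mp h2
  rw [this]
  exact m.2

/-- Every `α`-invariant subgroup has order a power of `4`. -/
theorem card_eq_four_pow (S : Fpf3 α) (U : Subgroup T) (hU : ∀ u ∈ U, α u ∈ U) :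
    ∃ j : ℕ, Nat.card U = 4 ^ j := by
  classical
  haveI := S.fin
  haveI : Fintype U := Fintype.ofFinite U
  obtain ⟨k, hk⟩ := IsPGroup.iff_card.mp (S.p2.to_subgroup U)
  let f : Function.End U := fun u => ⟨α u.1, hU _ u.2⟩
  have hf : f ^ 3 ^ 1 = 1 := by
    funext y
    apply Subtype.ext
    exact S.cube y.1
  haveI : Fact (Nat.Prime 3) := ⟨Nat.prime_three⟩
  have h := Equiv.Perm.card_fixedPoints_modEq (p := 3) hf
  have hfix : Fintype.card (Function.fixedPoints f) = 1 := by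
    rw [Fintype.card_eq_one_iff]
    refine ⟨⟨1, ?_⟩, ?_⟩
    · apply Subtype.ext
      simp [f]
    · rintro ⟨y, hy⟩
      apply Subtype.ext
      apply Subtype.ext
      have : α y.1 = y.1 := congrArg Subtype.val hy
      simpa using S.fpf _ this
  rw [hfix, ← Nat.card_eq_fintype_card, hk] at h
  obtain ⟨j, hj | hj⟩ := Nat.even_or_odd' k
  · refine ⟨j, ?_⟩
    rw [hk, hj, pow_mul]
    norm_num
  · exfalso
    rw [hj, pow_succ, pow_mul] at h
    norm_num at h
    have h4 : 4 ^ j % 3 = 1 := by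
      simp [Nat.pow_mod]
    have : (4 ^ j * 2) % 3 = 1 % 3 := h
    rw [Nat.mul_mod, h4] at this
    norm_num at this

lemma map_ne_one (v : T) (h : v ≠ 1) : α v ≠ 1 := by
  intro h2
  apply h
  apply α.injective
  rw [h2, map_one]

/-- Distinctness of the images. -/
lemma ne_of_ne_one (S : Fpf3 α) {v : T} (h1 : v ≠ 1) :
    α v ≠ v ∧ α (α v) ≠ v ∧ α (α v) ≠ α v := by
  have a1 : α v ≠ v := fun h => h1 (S.fpf _ h)
  have a2 : α (α v) ≠ v := fun h => h1 (S.fpf2 _ h)
  exact ⟨a1, a2, fun h => a1 (α.injective h)⟩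

/-- Structure of an invariant subgroup of order four. -/
lemma four_cases (S : Fpf3 α) {V : Subgroup T} (hV : ∀ v ∈ V, α v ∈ V) (hc : Nat.card V = 4) {v : T}
    (hv : v ∈ V) (h1 : v ≠ 1) {w : T} (hw : w ∈ V) : w = 1 ∨ w = v ∨ w = α v ∨ w = α (α v) := by
  classical
  haveI := S.fin
  haveI : Fintype V := Fintype.ofFinite V
  obtain ⟨a1, a2, a3⟩ := S.ne_of_ne_one h1
  have hav : α v ∈ V := hV _ hv
  have haav : α (α v) ∈ V := hV _ hav
  have hav1 : α v ≠ 1 := map_ne_one v h1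
  have haav1 : α (α v) ≠ 1 := map_ne_one _ hav1
  let s : Finset V := {1, ⟨v, hv⟩, ⟨α v, hav⟩, ⟨α (α v), haav⟩}
  have hs : s.card = 4 := by
    rw [Finset.card_insert_of_notMem, Finset.card_insert_of_notMem, Finset.card_insert_of_notMem,
      Finset.card_singleton]
    · simp only [Finset.mem_singleton, Subtype.mk.injEq]
      exact a3.symm
    · simp only [Finset.mem_insert, Finset.mem_singleton, Subtype.mk.injEq, not_or]
      exact ⟨a1.symm, a2.symm⟩
    · simp only [Finset.mem_insert, Finset.mem_singleton, not_or]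
      refine ⟨?_, ?_, ?_⟩
      · intro h; exact h1 (congrArg Subtype.val h).symm
      · intro h; exact hav1 (congrArg Subtype.val h).symm
      · intro h; exact haav1 (congrArg Subtype.val h).symm
  have hu : s = Finset.univ := by
    apply Finset.eq_univ_of_card
    rw [hs, ← Nat.card_eq_fintype_card, hc]
  have : (⟨w, hw⟩ : V) ∈ s := by rw [hu]; exact Finset.mem_univ _
  simp only [s, Finset.mem_insert, Finset.mem_singleton, Subtype.mk.injEq] at this
  rcases this with h | h | h | h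
  · left; exact congrArg Subtype.val h
  · exact Or.inr (Or.inl h)
  · exact Or.inr (Or.inr (Or.inl h))
  · exact Or.inr (Or.inr (Or.inr h))

/-- An invariant subgroup of order four has exponent two. -/
lemma four_exp (S : Fpf3 α) {V : Subgroup T} (hV : ∀ v ∈ V, α v ∈ V) (hc : Nat.card V = 4) {w : T}
    (hw : w ∈ V) : w * w = 1 := by
  classical
  haveI := S.fin
  obtain ⟨z, hz⟩ : ∃ z : V, orderOf z = 2 := exists_prime_orderOf_dvd_card' 2 (by rw [hc]; norm_num)
  have hz1 : (z.1 : T) ≠ 1 := by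
    intro h
    have : z = 1 := Subtype.ext h
    rw [this, orderOf_one] at hz
    omega
  have hz2 : (z.1 : T) * z.1 = 1 := by
    have := pow_orderOf_eq_one z
    rw [hz, pow_two] at this
    exact congrArg Subtype.val this
  rcases S.four_cases hV hc z.2 hz1 hw with h | h | h | h
  · simp [h]
  · rw [h]; exact hz2
  · rw [h, ← map_mul, hz2, map_one]
  · rw [h, ← map_mul, ← map_mul, hz2, map_one, map_one]

end Fpf3

end Cfsg.Agent.Lib.TwoFusion.Hyp
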