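import Cfsg.Agent.Lib.TwoFusion.Hyp.Tau
import Cfsg.Agent.Lib.TwoFusion.Hig.Final

/-!
# The classification in the set-up `TauSetup`
-/

set_option autoImplicit false
set_option linter.unusedSectionVars false
set_option linter.unusedVariables false
set_option linter.style.haveILetI false

namespace Cfsg.Agent.Lib.TwoFusion.Hyp

open scoped commutatorElement
open Cfsg.Agent.Lib.TwoFusion

variable {T : Type*} [Group T] {α τ : MulAut T} {V : Subgroup T}

/-- **The classification.** -/
theorem TauSetup.classify (H : TauSetup α τ V) {F₄ F₁₆ : Type*} [Field F₄] [Fintype F₄] [Field F₁₆]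
    [Fintype F₁₆] [Fact (Fintype.card F₁₆ = 16)] (h4 : Fintype.card F₄ = 4) :
    (Nat.card T = 16 ∧ ∀ x : T, x * x = 1) ∨
      (∃ n : ℕ, 1 ≤ n ∧ Nonempty (T ≃* Multiplicative (ZMod (2 ^ n) × ZMod (2 ^ n)))) ∨
      Nonempty (T ≃* UT F₄) ∨ Nonempty (T ≃* U34.H F₁₆) := by
  classical
  have S := H.S
  by_cases h : ∀ x : T, x * x = 1 → x ∈ V
  · have S' : Hig.Setup α V := by
      refine ⟨S.fin, S.p2, ⟨1, ?_⟩, S.fpf, fun x => ⟨H.V_exp, h x⟩, H.card_V, H.central⟩
      ext t
      simp [pow_succ, S.cube]
    right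
    rcases S'.structure_thm with hc | ⟨h64, hcen, hsq⟩
    · exact Or.inl (S'.homocyclic hc)
    · right; right
      have NA : Hig.Setup.NA S' := ⟨h64, hcen, hsq⟩
      exact NA.iso_H (F := F₁₆)
  · push Not at h
    obtain ⟨y, hy2, hyV⟩ := h
    rcases H.main_B hyV hy2 with h1 | ⟨a, b, hab⟩
    · exact Or.inl h1
    · exact Or.inr (Or.inr (Or.inl (hab.iso_UT h4)))

/-- A moved element of an invariant subgroup of order four forces the others to be moved. -/
lemma moved_of_exists {α : MulAut T} (hcube : ∀ x : T, α (α (α x)) = x) (hVα : ∀ v ∈ V, α v ∈ V)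
    (hV4 : Nat.card V = 4) {w : T} (hw : w ∈ V) (hmoved : α w ≠ w) {k : T} (hk : k ∈ V) (hk1 : k ≠ 1) :
    α k ≠ k := by
  classical
  haveI : Finite V := Nat.finite_of_card_ne_zero (by rw [hV4]; norm_num)
  haveI : Fintype V := Fintype.ofFinite V
  have h1 : w ≠ 1 := by
    rintro rfl
    exact hmoved (map_one α)
  have a1 : α w ≠ w := hmoved
  have a2 : α (α w) ≠ w := by
    intro h
    apply hmoved
    have := hcube w
    rw [h] at this
    exact this
  have a3 : α (α w) ≠ α w := fun h => a1 (α.injective h)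
  have hav : α w ∈ V := hVα _ hw
  have haav : α (α w) ∈ V := hVα _ hav
  have hav1 : α w ≠ 1 := Fpf3.map_ne_one w h1
  have haav1 : α (α w) ≠ 1 := Fpf3.map_ne_one _ hav1
  let s : Finset V := {1, ⟨w, hw⟩, ⟨α w, hav⟩, ⟨α (α w), haav⟩}
  have hs : s.card = 4 := by
    rw [Finset.card_insert_of_notMem, Finset.card_insert_of_notMem, Finset.card_insert_of_notMem,
      Finset.card_singleton]
    · simp only [Finset.mem_singleton, Subtype.mk.injEq]
      exact a3.symm
    · simp only [Finset.mem_insert, Finset.mem_singleton, Subtype.mk.injEq, not_or]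
      exact ⟨a1.symm, a2.symm⟩
    · simp only [Finset.mem_insert, Finset.mem_singleton, not_or]
      refine ⟨?_, ?_, ?_⟩
      · intro h; exact h1 (congrArg Subtype.val h).symm
      · intro h; exact hav1 (congrArg Subtype.val h).symm
      · intro h; exact haav1 (congrArg Subtype.val h).symm
  have hu : s = Finset.univ := by
    apply Finset.eq_univ_of_card
    rw [hs, ← Nat.card_eq_fintype_card, hV4]
  have : (⟨k, hk⟩ : V) ∈ s := by rw [hu]; exact Finset.mem_univ _
  simp only [s, Finset.mem_insert, Finset.mem_singleton, Subtype.mk.injEq] at this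
  rcases this with h | h | h | h
  · exact absurd (congrArg Subtype.val h) hk1
  · rw [h]; exact a1
  · rw [h]; exact a3
  · rw [h, hcube]
    exact a2.symm

/-- The fixed-point-free property from commuting with an involution whose fixed points are moved. -/
lemma fpf_of_tau [Finite T] (hp2 : IsPGroup 2 T) {α τ : MulAut T} (hτ2 : ∀ t, τ (τ t) = t)
    (hτα : ∀ t, τ (α t) = α (τ t)) (hC : ∀ t, τ t = t → t ∈ V) (hmv : ∀ k ∈ V, k ≠ 1 → α k ≠ k) :
    ∀ x : T, α x = x → x = 1 := by
  classical
  let K : Subgroup T :=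
    { carrier := {x | α x = x}
      one_mem' := map_one α
      mul_mem' := by
        intro a b ha hb
        change α (a * b) = a * b
        have ha' : α a = a := ha
        have hb' : α b = b := hb
        rw [map_mul, ha', hb']
      inv_mem' := by
        intro a ha
        change α a⁻¹ = a⁻¹
        have ha' : α a = a := ha
        rw [map_inv, ha'] }
  by_contra hcon
  push Not at hcon
  obtain ⟨x, hx, hx1⟩ := hcon
  have hK : K ≠ ⊥ := by
    intro h
    have : x ∈ K := hx
    rw [h] at this
    exact hx1 (Subgroup.mem_bot.mp this)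
  obtain ⟨k, hk, hk1, hk2⟩ := exists_fixed hp2 K hK τ.toMonoidHom hτ2 (fun k hk => by
    have hk' : α k = k := hk
    change α (τ k) = τ k
    rw [← hτα, hk'])
  exact hmv k (hC k hk2) hk1 hk

end Cfsg.Agent.Lib.TwoFusion.Hyp
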