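import Cfsg.Agent.Lib.KS71.PSLSylow

/-!
# The unitriangular group of degree three in characteristic two, and its image in `PSL₃`
-/

set_option autoImplicit false
set_option linter.unusedSectionVars false
set_option linter.unusedVariables false
set_option linter.style.haveILetI false

namespace Cfsg.Agent.Lib.TwoFusion.Hyp

open Matrix
open Cfsg.Agent.Lib.KS71.PSLCore Cfsg.Agent.Lib.KS71.UniTri Cfsg.Agent.Lib.KS71.PSLSylow

variable {F : Type*} [Field F] [Fintype F]

abbrev UT (F : Type*) [Field F] [Fintype F] : Type _ := ↥(U 3 F)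

/-- The three coordinates. -/
def ca (A : UT F) : F := A.1.1 0 1
def cb (A : UT F) : F := A.1.1 1 2
def cc (A : UT F) : F := A.1.1 0 2

lemma ut_entries (A : UT F) : A.1.1 0 0 = 1 ∧ A.1.1 1 1 = 1 ∧ A.1.1 2 2 = 1 ∧ A.1.1 1 0 = 0 ∧
    A.1.1 2 0 = 0 ∧ A.1.1 2 1 = 0 := by
  have h : IsUT A.1.1 := A.2
  refine ⟨?_, ?_, ?_, ?_, ?_, ?_⟩
  · simpa using h 0 0 le_rfl
  · simpa using h 1 1 le_rfl
  · simpa using h 2 2 le_rfl
  · simpa using h 1 0 (by decide)
  · simpa using h 2 0 (by decide)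
  · simpa using h 2 1 (by decide)

lemma ut_ext {A B : UT F} (h1 : ca A = ca B) (h2 : cb A = cb B) (h3 : cc A = cc B) : A = B := by
  apply Subtype.ext
  apply Subtype.ext
  obtain ⟨a1, a2, a3, a4, a5, a6⟩ := ut_entries A
  obtain ⟨b1, b2, b3, b4, b5, b6⟩ := ut_entries B
  ext i j
  fin_cases i <;> fin_cases j
  · exact a1.trans b1.symm
  · exact h1
  · exact h3
  · exact a4.trans b4.symm
  · exact a2.trans b2.symm
  · exact h2
  · exact a5.trans b5.symm
  · exact a6.trans b6.symm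
  · exact a3.trans b3.symm

lemma ca_mul (A B : UT F) : ca (A * B) = ca A + ca B := by
  obtain ⟨a1, a2, a3, a4, a5, a6⟩ := ut_entries A
  obtain ⟨b1, b2, b3, b4, b5, b6⟩ := ut_entries B
  change (A.1.1 * B.1.1) 0 1 = _
  rw [Matrix.mul_apply, Fin.sum_univ_three, a1, b2, b6]
  simp only [ca]
  ring

lemma cb_mul (A B : UT F) : cb (A * B) = cb A + cb B := by
  obtain ⟨a1, a2, a3, a4, a5, a6⟩ := ut_entries A
  obtain ⟨b1, b2, b3, b4, b5, b6⟩ := ut_entries B
  change (A.1.1 * B.1.1) 1 2 = _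
  rw [Matrix.mul_apply, Fin.sum_univ_three, a4, a2, b3]
  simp only [cb]
  ring

lemma cc_mul (A B : UT F) : cc (A * B) = cc A + cc B + ca A * cb B := by
  obtain ⟨a1, a2, a3, a4, a5, a6⟩ := ut_entries A
  obtain ⟨b1, b2, b3, b4, b5, b6⟩ := ut_entries B
  change (A.1.1 * B.1.1) 0 2 = _
  rw [Matrix.mul_apply, Fin.sum_univ_three, a1, b3]
  simp only [cc, ca, cb]
  ring

/-- A matrix with given coordinates. -/
def utMk (a b c : F) : UT F :=
  ⟨⟨!![1, a, c; 0, 1, b; 0, 0, 1], by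
    apply IsUT.det
    intro i j hij
    fin_cases i <;> fin_cases j <;> simp_all⟩, by
    intro i j hij
    fin_cases i <;> fin_cases j <;> simp_all⟩

lemma ca_mk (a b c : F) : ca (utMk a b c) = a := rfl
lemma cb_mk (a b c : F) : cb (utMk a b c) = b := rfl
lemma cc_mk (a b c : F) : cc (utMk a b c) = c := rfl

/-- In characteristic two, the squaring. -/
lemma sq_ut (h2 : (2 : F) = 0) (A : UT F) : ca (A * A) = 0 ∧ cb (A * A) = 0 ∧ cc (A * A) = ca A * cb A := by
  refine ⟨?_, ?_, ?_⟩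
  · rw [ca_mul]; linear_combination ca A * h2
  · rw [cb_mul]; linear_combination cb A * h2
  · rw [cc_mul]; linear_combination cc A * h2

lemma central_ut {A : UT F} (h1 : ca A = 0) (h2 : cb A = 0) (B : UT F) : A * B = B * A := by
  apply ut_ext
  · rw [ca_mul, ca_mul]; ring
  · rw [cb_mul, cb_mul]; ring
  · rw [cc_mul, cc_mul, h1, h2]; ring

/-- The isomorphism of `UT` onto its image in `PSL`. -/
theorem ut_equiv : Nonempty (UT F ≃* Ubar 3 F) := by
  classical
  let f : UT F →* Ubar 3 F :=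
    { toFun := fun A => ⟨mkP A.1, mem_Ubar.2 ⟨A.1, A.2, rfl⟩⟩
      map_one' := rfl
      map_mul' := fun _ _ => rfl }
  have hinj : Function.Injective f := by
    rw [injective_iff_map_eq_one]
    intro A hA
    have h1 : mkP A.1 = mkP (1 : Matrix.SpecialLinearGroup (Fin 3) F) := congrArg Subtype.val hA
    obtain ⟨c, hc⟩ := (mkP_eq_iff _ _).1 h1
    obtain ⟨a1, a2, a3, a4, a5, a6⟩ := ut_entries A
    have hc0 : ((1 : Matrix.SpecialLinearGroup (Fin 3) F) : Matrix (Fin 3) (Fin 3) F) = c • A.1.1 := hc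
    rw [Matrix.SpecialLinearGroup.coe_one] at hc0
    have h00 := congrFun (congrFun hc0 0) 0
    have h01 := congrFun (congrFun hc0 0) 1
    have h02 := congrFun (congrFun hc0 0) 2
    have h12 := congrFun (congrFun hc0 1) 2
    rw [Matrix.one_apply, Matrix.smul_apply, smul_eq_mul, a1, if_pos rfl, mul_one] at h00
    rw [Matrix.one_apply, Matrix.smul_apply, smul_eq_mul, if_neg (by decide), ← h00, one_mul] at h01 h02 h12
    apply ut_ext
    · exact h01.symm
    · exact h12.symm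
    · exact h02.symm
  have hsurj : Function.Surjective f := by
    rintro ⟨x, hx⟩
    obtain ⟨s, hs, rfl⟩ := mem_Ubar.1 hx
    exact ⟨⟨s, hs⟩, rfl⟩
  exact ⟨MulEquiv.ofBijective f ⟨hinj, hsurj⟩⟩

/-- The image of `UT` is a Sylow subgroup. -/
theorem exists_sylow (hF : Fintype.card F = 4) :
    ∃ S : Sylow 2 (ProjectiveSpecialLinearGroup (Fin 3) F), (S : Subgroup _) = Ubar 3 F := by
  have hF' : Fintype.card F = 2 ^ 2 := by rw [hF]; norm_num
  have h1 := isPGroup_Ubar (n := 3) (F := F) Nat.prime_two hF'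
  have h2 := not_dvd_index_Ubar (n := 3) (F := F) Nat.prime_two hF' (by norm_num) (by norm_num)
  haveI : Fact (Nat.Prime 2) := ⟨Nat.prime_two⟩
  exact ⟨h1.toSylow h2, rfl⟩

end Cfsg.Agent.Lib.TwoFusion.Hyp
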