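import Cfsg.Agent.Lib.TwoFusion.Hyp.ClassTwo
import Cfsg.Agent.Lib.TwoFusion.Hyp.Model
import Cfsg.Agent.Lib.TwoFusion.Hig.IsoLemma

/-!
# Hyperbolic case: the isomorphism with the unitriangular group over `𝔽₄`
-/

set_option autoImplicit false
set_option linter.unusedSectionVars false
set_option linter.unusedVariables false
set_option linter.style.haveILetI false

namespace Cfsg.Agent.Lib.TwoFusion.Hyp

open scoped commutatorElement
open Cfsg.Agent.Lib.KS71.UniTri

variable {T : Type*} [Group T] {α : MulAut T} {V : Subgroup T}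
variable {F : Type*} [Field F] [Fintype F]

/-- Field facts for the field with four elements. -/
lemma two_zero_of_card_four (hF : Fintype.card F = 4) : (2 : F) = 0 := by
  have h : ringChar F = 2 := FiniteField.even_card_iff_char_two.mpr (by rw [hF])
  have h2 := ringChar.Nat.cast_ringChar (R := F)
  rw [h] at h2
  exact_mod_cast h2

lemma exists_omega (hF : Fintype.card F = 4) : ∃ ω : F, ω ^ 2 + ω + 1 = 0 := by
  classical
  have h2 := two_zero_of_card_four hF
  obtain ⟨g, hg⟩ := IsCyclic.exists_generator (α := Fˣ)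
  have hcard : Fintype.card Fˣ = 3 := by
    rw [Fintype.card_units, hF]
  have hord : orderOf g = 3 := by
    rw [orderOf_eq_card_of_forall_mem_zpowers hg, Nat.card_eq_fintype_card, hcard]
  have h3 : (g : F) ^ 3 = 1 := by
    have : g ^ 3 = 1 := by rw [← hord, pow_orderOf_eq_one]
    have h5 := congrArg (fun u : Fˣ => (u : F)) this
    simpa using h5
  have hne : (g : F) ≠ 1 := by
    intro h
    have h5 : g = 1 := Units.ext h
    rw [h5, orderOf_one] at hord
    omega
  refine ⟨g, ?_⟩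
  have h1 : ((g : F) - 1) * ((g : F) ^ 2 + g + 1) = 0 := by
    linear_combination h3
  rcases mul_eq_zero.mp h1 with h | h
  · exact absurd (sub_eq_zero.mp h) hne
  · exact h

lemma four_elts (hF : Fintype.card F = 4) {ω : F} (hω : ω ^ 2 + ω + 1 = 0) (p : F) :
    p = 0 ∨ p = 1 ∨ p = ω ∨ p = ω ^ 2 := by
  have h2 := two_zero_of_card_four hF
  have h4 : p ^ 4 = p := by
    have := FiniteField.pow_card p
    rwa [hF] at this
  have h : p * ((p - 1) * ((p - ω) * (p - ω ^ 2))) = 0 := by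
    linear_combination h4 + p * (p - 1) * (-p + ω - 1) * hω
  rcases mul_eq_zero.mp h with h | h
  · exact Or.inl h
  rcases mul_eq_zero.mp h with h | h
  · exact Or.inr (Or.inl (sub_eq_zero.mp h))
  rcases mul_eq_zero.mp h with h | h
  · exact Or.inr (Or.inr (Or.inl (sub_eq_zero.mp h)))
  · exact Or.inr (Or.inr (Or.inr (sub_eq_zero.mp h)))

/-- Data for the map `V → F`. -/
structure Dat (V : Subgroup T) (α : MulAut T) (ω : F) (θ : T → F) : Prop where
  hω : ω ^ 2 + ω + 1 = 0
  add : ∀ v ∈ V, ∀ w ∈ V, θ (v * w) = θ v + θ w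
  map : ∀ v ∈ V, θ (α v) = ω ^ 2 * θ v
  zero : ∀ v ∈ V, θ v = 0 → v = 1

lemma Dat.cube {ω : F} {θ : T → F} (D : Dat V α ω θ) : ω ^ 3 = 1 := by
  linear_combination (ω - 1) * D.hω

lemma Dat.one {ω : F} {θ : T → F} (D : Dat V α ω θ) : θ 1 = 0 := by
  have := D.add 1 V.one_mem 1 V.one_mem
  rw [mul_one] at this
  linear_combination - this

lemma Dat.map2 {ω : F} {θ : T → F} (D : Dat V α ω θ) (hVα : ∀ v ∈ V, α v ∈ V) {v : T} (hv : v ∈ V) :
    θ (α (α v)) = ω * θ v := by
  rw [D.map _ (hVα _ hv), D.map _ hv]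
  linear_combination (ω * θ v) * D.cube

/-- Construction of `θ`. -/
theorem exists_theta (hF : Fintype.card F = 4) (S : Fpf3 α) (hVα : ∀ v ∈ V, α v ∈ V)
    (hV4 : Nat.card V = 4) (hVc : ∀ v ∈ V, ∀ t : T, v * t = t * v) {v₀ : T} (hv₀ : v₀ ∈ V) (h1 : v₀ ≠ 1)
    {ω : F} (hω : ω ^ 2 + ω + 1 = 0) : ∃ θ : T → F, Dat V α ω θ ∧ θ v₀ = 1 := by
  classical
  have h2 := two_zero_of_card_four hF
  have hω3 : ω ^ 3 = 1 := by linear_combination (ω - 1) * hω
  have hω4 : ω ^ 4 = ω := by linear_combination ω * hω3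
  have hω0 : ω ≠ 0 := by
    rintro rfl
    norm_num at hω
  have hω2 : ω ^ 2 ≠ 0 := pow_ne_zero _ hω0
  obtain ⟨a1, a2, a3⟩ := S.ne_of_ne_one h1
  have hav1 : α v₀ ≠ 1 := Fpf3.map_ne_one v₀ h1
  have haav1 : α (α v₀) ≠ 1 := Fpf3.map_ne_one _ hav1
  let θ : T → F := fun v => if v = v₀ then 1 else if v = α v₀ then ω ^ 2 else if v = α (α v₀) then ω else 0
  have e0 : θ 1 = 0 := by
    simp [θ, h1.symm, hav1.symm, haav1.symm]
  have e1 : θ v₀ = 1 := by simp [θ]
  have e2 : θ (α v₀) = ω ^ 2 := by simp [θ, a1]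
  have e3 : θ (α (α v₀)) = ω := by simp [θ, a2, a3]
  have hav : α v₀ ∈ V := hVα _ hv₀
  have haav : α (α v₀) ∈ V := hVα _ hav
  have p11 : v₀ * v₀ = 1 := S.four_exp hVα hV4 hv₀
  have p22 : α v₀ * α v₀ = 1 := S.four_exp hVα hV4 hav
  have p33 : α (α v₀) * α (α v₀) = 1 := S.four_exp hVα hV4 haav
  have hθ3 : α (α v₀) = v₀ * α v₀ := by
    rw [S.third v₀]
    exact inv_eq_of_mul_eq_one_left (S.four_exp hVα hV4 (V.mul_mem hv₀ hav))
  have p21 : α v₀ * v₀ = v₀ * α v₀ := hVc _ hav v₀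
  have p12' : v₀ * α v₀ = α (α v₀) := hθ3.symm
  have p21' : α v₀ * v₀ = α (α v₀) := by rw [p21, p12']
  have p13 : v₀ * α (α v₀) = α v₀ := by
    rw [hθ3, ← mul_assoc, p11, one_mul]
  have p31 : α (α v₀) * v₀ = α v₀ := by rw [← hVc _ hv₀, p13]
  have p23 : α v₀ * α (α v₀) = v₀ := by
    rw [hθ3, ← mul_assoc, p21, mul_assoc, p22, mul_one]
  have p32 : α (α v₀) * α v₀ = v₀ := by rw [← hVc _ hav, p23]
  have hcases : ∀ v ∈ V, v = 1 ∨ v = v₀ ∨ v = α v₀ ∨ v = α (α v₀) := fun v hv =>
    S.four_cases hVα hV4 hv₀ h1 hv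
  refine ⟨θ, ⟨hω, ?_, ?_, ?_⟩, e1⟩
  · intro v hv w hw
    rcases hcases v hv with rfl | rfl | rfl | rfl <;> rcases hcases w hw with rfl | rfl | rfl | rfl <;>
      simp only [p11, p12', p13, p21', p22, p23, p31, p32, p33, mul_one, one_mul, e0, e1, e2, e3, zero_add,
        add_zero]
    all_goals first
      | linear_combination - h2
      | linear_combination - hω + ω * h2
      | linear_combination hω - (ω + 1) * h2
      | linear_combination - ω ^ 2 * h2
      | linear_combination - hω + h2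
      | linear_combination - ω * h2
  · intro v hv
    rcases hcases v hv with rfl | rfl | rfl | rfl
    · rw [map_one, e0, mul_zero]
    · rw [e1, e2, mul_one]
    · rw [e2, e3]
      linear_combination - hω4
    · rw [S.cube, e1, e3]
      linear_combination - hω3
  · intro v hv h
    rcases hcases v hv with rfl | rfl | rfl | rfl
    · rfl
    · rw [e1] at h
      exact absurd h one_ne_zero
    · rw [e2] at h
      exact absurd h hω2
    · rw [e3] at h
      exact absurd h hω0

/-- Hypotheses of the hyperbolic case. -/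
structure HY (α : MulAut T) (V : Subgroup T) (x y : T) : Prop where
  S : Fpf3 α
  hVα : ∀ v ∈ V, α v ∈ V
  card_V : Nat.card V = 4
  central : ∀ v ∈ V, ∀ t : T, v * t = t * v
  hx : x * x = 1
  hy : y * y = 1
  hxy : ⁅x, y⁆ ≠ 1
  hxV : ∀ t : T, ⁅t, x⁆ ∈ V
  hyV : ∀ t : T, ⁅t, y⁆ ∈ V
  hker : ∀ t : T, ⁅t, x⁆ = 1 → ⁅t, y⁆ = 1 → t ∈ V

namespace HY

variable {x y : T}

/-- **The isomorphism with the model.** -/
theorem iso_UT (H : HY α V x y) (hF : Fintype.card F = 4) : Nonempty (T ≃* UT F) := by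
  classical
  have S := H.S
  haveI := S.fin
  have h2 := two_zero_of_card_four hF
  obtain ⟨ω, hω⟩ := exists_omega hF
  have hω3 : ω ^ 3 = 1 := by linear_combination (ω - 1) * hω
  have hω4 : ω ^ 4 = ω := by linear_combination ω * hω3
  have hVα := H.hVα
  have hV4 := H.card_V
  have hxy := H.hxy
  have hcmV : ⁅x, y⁆ ∈ V := H.hyV x
  obtain ⟨θ, hD, hθ⟩ := exists_theta hF S hVα hV4 H.central hcmV hxy hω
  have hVe : ∀ {v : T}, v ∈ V → v * v = 1 := fun hv => S.four_exp hVα hV4 hv
  have hVi : ∀ {v : T}, v ∈ V → v⁻¹ = v := fun hv => inv_eq_of_mul_eq_one_left (hVe hv)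
  have hxV' : ∀ t : T, ⁅x, t⁆ ∈ V := by
    intro t
    rw [Fpf3.cm_swap t x]
    exact V.inv_mem (H.hxV t)
  -- the coordinates
  let a : T → F := fun t => θ ⁅t, y⁆
  let b : T → F := fun t => θ ⁅x, t⁆
  have ha : ∀ t, a t = θ ⁅t, y⁆ := fun _ => rfl
  have hb : ∀ t, b t = θ ⁅x, t⁆ := fun _ => rfl
  have a_mul : ∀ s t, a (s * t) = a s + a t := by
    intro s t
    simp only [ha]
    rw [S.cm_mul_left, hD.add _ (H.hyV _) _ (H.hyV _)]
  have b_mul : ∀ s t, b (s * t) = b s + b t := by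
    intro s t
    simp only [hb]
    rw [S.cm_mul_right, hD.add _ (hxV' _) _ (hxV' _)]
  have a_α : ∀ t, a (α t) = ω * a t := by
    intro t
    simp only [ha]
    rw [S.cm_map2, hD.map2 hVα (H.hyV _)]
  have b_α : ∀ t, b (α t) = ω * b t := by
    intro t
    simp only [hb]
    rw [S.cm_map_right, hD.map2 hVα (hxV' _)]
  have ax : a x = 1 := hθ
  have by' : b y = 1 := hθ
  have bx : b x = 0 := by
    rw [hb, commutatorElement_self, hD.one]
  have ay : a y = 0 := by
    rw [ha, commutatorElement_self, hD.one]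
  let π₁ : T →* Multiplicative (F × F) := MonoidHom.mk' (fun t => Multiplicative.ofAdd (a t, b t)) (by
    intro s t
    rw [a_mul, b_mul]
    rfl)
  have hπ₁ : ∀ t, π₁ t = Multiplicative.ofAdd (a t, b t) := fun _ => rfl
  have hmem₁ : ∀ t, t ∈ π₁.ker ↔ t ∈ V := by
    intro t
    rw [MonoidHom.mem_ker, hπ₁]
    constructor
    · intro h
      have h0 : (a t, b t) = (0, 0) := by
        have := congrArg Multiplicative.toAdd h
        exact this
      have h3 : a t = 0 := congrArg Prod.fst h0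
      have h4 : b t = 0 := congrArg Prod.snd h0
      apply H.hker t
      · have h5 : ⁅x, t⁆ = 1 := hD.zero _ (hxV' _) h4
        rw [Fpf3.cm_swap x t, h5, inv_one]
      · exact hD.zero _ (H.hyV _) h3
    · intro h
      have h3 : ⁅t, y⁆ = 1 := commutatorElement_eq_one_iff_mul_comm.mpr (H.central t h y)
      have h4 : ⁅x, t⁆ = 1 := commutatorElement_eq_one_iff_mul_comm.mpr (H.central t h x).symm
      rw [ha, hb, h3, h4, hD.one]
      rfl
  have hkereq : π₁.ker = V := by
    ext t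
    exact hmem₁ t
  -- normal form
  have hfirst : ∀ p : F, ∃ s : T, a s = p ∧ b s = 0 ∧ (s = 1 ∨ s = x ∨ s = α x ∨ s = α (α x)) := by
    intro p
    have b1 : b 1 = 0 := by rw [hb, commutatorElement_one_right, hD.one]
    have a1 : a 1 = 0 := by rw [ha, commutatorElement_one_left, hD.one]
    rcases four_elts hF hω p with rfl | rfl | rfl | rfl
    · exact ⟨1, a1, b1, Or.inl rfl⟩
    · exact ⟨x, ax, bx, Or.inr (Or.inl rfl)⟩
    · exact ⟨α x, by rw [a_α, ax, mul_one], by rw [b_α, bx, mul_zero], Or.inr (Or.inr (Or.inl rfl))⟩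
    · exact ⟨α (α x), by rw [a_α, a_α, ax]; ring, by rw [b_α, b_α, bx]; ring, Or.inr (Or.inr (Or.inr rfl))⟩
  have hsecond : ∀ q : F, ∃ s : T, a s = 0 ∧ b s = q ∧ (s = 1 ∨ s = y ∨ s = α y ∨ s = α (α y)) := by
    intro p
    have b1 : b 1 = 0 := by rw [hb, commutatorElement_one_right, hD.one]
    have a1 : a 1 = 0 := by rw [ha, commutatorElement_one_left, hD.one]
    rcases four_elts hF hω p with rfl | rfl | rfl | rfl
    · exact ⟨1, a1, b1, Or.inl rfl⟩
    · exact ⟨y, ay, by', Or.inr (Or.inl rfl)⟩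
    · exact ⟨α y, by rw [a_α, ay, mul_zero], by rw [b_α, by', mul_one], Or.inr (Or.inr (Or.inl rfl))⟩
    · exact ⟨α (α y), by rw [a_α, a_α, ay]; ring, by rw [b_α, b_α, by']; ring, Or.inr (Or.inr (Or.inr rfl))⟩
  have hsurj₁ : Function.Surjective π₁ := by
    intro e
    obtain ⟨s₁, h1, h2', -⟩ := hfirst (Multiplicative.toAdd e).1
    obtain ⟨s₂, h3, h4, -⟩ := hsecond (Multiplicative.toAdd e).2
    refine ⟨s₁ * s₂, ?_⟩
    rw [hπ₁, a_mul, b_mul, h1, h2', h3, h4, add_zero, zero_add]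
    rfl
  -- vanishing principle
  have hzero : ∀ g : T → F, (∀ s t, g (s * t) = g s + g t) → (∀ s, g s = 0 → g (α s) = 0) →
      (∀ v ∈ V, g v = 0) → g x = 0 → g y = 0 → ∀ t, g t = 0 := by
    intro g g_mul g_α g_V gx gy t
    have g1 : g 1 = 0 := g_V 1 V.one_mem
    obtain ⟨s₁, h1, h2', h5⟩ := hfirst (a t)
    obtain ⟨s₂, h3, h4, h6⟩ := hsecond (b t)
    have e : π₁ (s₁ * s₂) = π₁ t := by
      rw [hπ₁, hπ₁, a_mul, b_mul, h1, h2', h3, h4, add_zero, zero_add]
    have hv : (s₁ * s₂)⁻¹ * t ∈ V := by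
      rw [← hmem₁, MonoidHom.mem_ker, map_mul, map_inv, e]
      group
    have e2 : t = s₁ * s₂ * ((s₁ * s₂)⁻¹ * t) := by group
    have gs₁ : g s₁ = 0 := by
      rcases h5 with rfl | rfl | rfl | rfl
      · exact g1
      · exact gx
      · exact g_α _ gx
      · exact g_α _ (g_α _ gx)
    have gs₂ : g s₂ = 0 := by
      rcases h6 with rfl | rfl | rfl | rfl
      · exact g1
      · exact gy
      · exact g_α _ gy
      · exact g_α _ (g_α _ gy)
    rw [e2, g_mul, g_mul, gs₁, gs₂, g_V _ hv]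
    ring
  -- commutators and squares lie in `V`
  have hcm : ∀ s t : T, ⁅s, t⁆ ∈ V := by
    intro s t
    rw [← hmem₁, MonoidHom.mem_ker, map_commutatorElement, commutatorElement_eq_one_iff_mul_comm]
    exact mul_comm _ _
  have hsq : ∀ s : T, s * s ∈ V := by
    intro s
    rw [← hmem₁, MonoidHom.mem_ker, map_mul, hπ₁]
    change Multiplicative.ofAdd ((a s, b s) + (a s, b s)) = 1
    have : (a s, b s) + (a s, b s) = (0 : F × F) := by
      ext
      · change a s + a s = 0
        linear_combination a s * h2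
      · change b s + b s = 0
        linear_combination b s * h2
    rw [this]
    rfl
  have hcmsym : ∀ s t : T, ⁅s, t⁆ = ⁅t, s⁆ := by
    intro s t
    rw [Fpf3.cm_swap s t, hVi (hcm _ _)]
  -- the form `D`
  let D : T → T → F := fun s t => θ ⁅s, t⁆ + a s * b t + a t * b s
  have hDdef : ∀ s t, D s t = θ ⁅s, t⁆ + a s * b t + a t * b s := fun _ _ => rfl
  have hD1 : ∀ s s' t, D (s * s') t = D s t + D s' t := by
    intro s s' t
    simp only [hDdef]
    rw [S.cm_mul_left, hD.add _ (hcm _ _) _ (hcm _ _), a_mul, b_mul]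
    ring
  have hDα : ∀ s t, D (α s) t = ω * D s t := by
    intro s t
    simp only [hDdef]
    rw [S.cm_map2, hD.map2 hVα (hcm _ _), a_α, b_α]
    ring
  have hDsym : ∀ s t, D s t = D t s := by
    intro s t
    simp only [hDdef]
    rw [hcmsym]
    ring
  have hDV : ∀ s, ∀ v ∈ V, D v s = 0 := by
    intro s v hv
    have h3 : ⁅v, s⁆ = 1 := commutatorElement_eq_one_iff_mul_comm.mpr (H.central v hv s)
    have h4 : v ∈ π₁.ker := (hmem₁ v).mpr hv
    have h5 : (a v, b v) = (0, 0) := by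
      have h6 : π₁ v = 1 := h4
      rw [hπ₁] at h6
      exact congrArg Multiplicative.toAdd h6
    have h6 : a v = 0 := congrArg Prod.fst h5
    have h7 : b v = 0 := congrArg Prod.snd h5
    simp only [hDdef]
    rw [h3, hD.one, h6, h7]
    ring
  have hxx0 : D x x = 0 := by
    simp only [hDdef]
    rw [commutatorElement_self, hD.one, bx]
    ring
  have hyy0 : D y y = 0 := by
    simp only [hDdef]
    rw [commutatorElement_self, hD.one, ay]
    ring
  have hxy0 : D x y = 0 := by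
    simp only [hDdef]
    rw [hθ, ax, by', ay, bx]
    linear_combination h2
  have hyx0 : D y x = 0 := by rw [hDsym, hxy0]
  have hDzero : ∀ s t, D t s = 0 := by
    have h1 : ∀ s, D s x = 0 := hzero (fun s => D s x) (fun a b => hD1 a b x)
      (fun s hs => by
        change D (α s) x = 0
        rw [hDα]
        change D s x = 0 at hs
        rw [hs, mul_zero]) (fun v hv => hDV x v hv) hxx0 hyx0
    have h1' : ∀ s, D s y = 0 := hzero (fun s => D s y) (fun a b => hD1 a b y)
      (fun s hs => by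
        change D (α s) y = 0
        rw [hDα]
        change D s y = 0 at hs
        rw [hs, mul_zero]) (fun v hv => hDV y v hv) hxy0 hyy0
    intro s
    exact hzero (fun t => D t s) (fun a b => hD1 a b s)
      (fun t ht => by
        change D (α t) s = 0
        rw [hDα]
        change D t s = 0 at ht
        rw [ht, mul_zero]) (fun v hv => hDV s v hv) (by rw [hDsym]; exact h1 s) (by rw [hDsym]; exact h1' s)
  -- the squaring form
  let G : T → F := fun t => θ (t * t) + a t * b t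
  have hG : ∀ s t, G (s * t) = G s + G t := by
    intro s t
    change θ ((s * t) * (s * t)) + a (s * t) * b (s * t) = (θ (s * s) + a s * b s) + (θ (t * t) + a t * b t)
    have hq := hDzero s t
    rw [hDdef] at hq
    rw [S.sq_mul, hD.add _ (V.mul_mem (hsq _) (hsq _)) _ (hcm _ _), hD.add _ (hsq _) _ (hsq _), a_mul, b_mul]
    linear_combination hq
  have hGα : ∀ s, G s = 0 → G (α s) = 0 := by
    intro s hs
    change θ (s * s) + a s * b s = 0 at hs
    change θ ((α s) * (α s)) + a (α s) * b (α s) = 0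
    rw [← map_mul, hD.map _ (hsq s), a_α, b_α]
    linear_combination ω ^ 2 * hs
  have hG0 : ∀ t, G t = 0 := hzero G hG hGα
    (fun v hv => by
      change θ (v * v) + a v * b v = 0
      have h4 : v ∈ π₁.ker := (hmem₁ v).mpr hv
      have h5 : (a v, b v) = (0, 0) := by
        have h6 : π₁ v = 1 := h4
        rw [hπ₁] at h6
        exact congrArg Multiplicative.toAdd h6
      have h6 : a v = 0 := congrArg Prod.fst h5
      rw [hVe hv, hD.one, h6]
      ring)
    (by
      change θ (x * x) + a x * b x = 0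
      rw [H.hx, hD.one, bx]
      ring)
    (by
      change θ (y * y) + a y * b y = 0
      rw [H.hy, hD.one, ay]
      ring)
  -- the model
  let π₂ : UT F →* Multiplicative (F × F) := MonoidHom.mk' (fun A => Multiplicative.ofAdd (ca A, cb A)) (by
    intro A B
    rw [ca_mul, cb_mul]
    rfl)
  have hπ₂ : ∀ A, π₂ A = Multiplicative.ofAdd (ca A, cb A) := fun _ => rfl
  have hmem₂ : ∀ A, A ∈ π₂.ker ↔ ca A = 0 ∧ cb A = 0 := by
    intro A
    rw [MonoidHom.mem_ker, hπ₂]
    constructor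
    · intro h
      have h0 : (ca A, cb A) = (0, 0) := congrArg Multiplicative.toAdd h
      exact ⟨congrArg Prod.fst h0, congrArg Prod.snd h0⟩
    · rintro ⟨h3, h4⟩
      rw [h3, h4]
      rfl
  have hsurj₂ : Function.Surjective π₂ := by
    intro e
    refine ⟨utMk (Multiplicative.toAdd e).1 (Multiplicative.toAdd e).2 0, ?_⟩
    rw [hπ₂, ca_mk, cb_mk]
    rfl
  have hc₁ : ∀ v ∈ π₁.ker, ∀ x : T, v * x = x * v := fun v hv x => H.central v ((hmem₁ v).mp hv) x
  have hc₂ : ∀ v ∈ π₂.ker, ∀ x : UT F, v * x = x * v := fun v hv x => by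
    obtain ⟨h3, h4⟩ := (hmem₂ v).mp hv
    exact central_ut h3 h4 x
  haveI hfinU : Finite (UT F) := inferInstance
  have hcard₁ : Nat.card π₁.ker = 4 := by
    rw [hkereq]
    exact hV4
  have h16 : Nat.card (Multiplicative (F × F)) = 16 := by
    rw [Nat.card_congr Multiplicative.ofAdd.symm, Nat.card_eq_fintype_card, Fintype.card_prod, hF]
  have hcardU : Nat.card (UT F) = 64 := by
    rw [card_U, hF]
    norm_num
  have hcard₂ : Nat.card π₂.ker = 4 := by
    have h1 := π₂.ker.card_mul_index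
    rw [Subgroup.index_ker, hcardU, MonoidHom.range_eq_top.mpr hsurj₂, Subgroup.card_top, h16] at h1
    omega
  let f : π₁.ker →* π₂.ker := MonoidHom.mk' (fun v => ⟨utMk 0 0 (θ v.1), (hmem₂ _).mpr ⟨rfl, rfl⟩⟩) (by
    intro u v
    apply Subtype.ext
    apply ut_ext
    · change (0 : F) = ca (utMk 0 0 (θ u.1) * utMk 0 0 (θ v.1))
      rw [ca_mul, ca_mk, ca_mk, add_zero]
    · change (0 : F) = cb (utMk 0 0 (θ u.1) * utMk 0 0 (θ v.1))
      rw [cb_mul, cb_mk, cb_mk, add_zero]
    · change θ (u.1 * v.1) = cc (utMk 0 0 (θ u.1) * utMk 0 0 (θ v.1))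
      rw [cc_mul, cc_mk, cc_mk, ca_mk, cb_mk, hD.add _ ((hmem₁ _).mp u.2) _ ((hmem₁ _).mp v.2)]
      ring)
  have hfinj : Function.Injective f := by
    rw [injective_iff_map_eq_one]
    intro u hu
    apply Subtype.ext
    have h3 : θ u.1 = 0 := by
      have h5 := congrArg (fun z : π₂.ker => cc z.1) hu
      exact h5
    exact hD.zero _ ((hmem₁ _).mp u.2) h3
  have hfbij : Function.Bijective f :=
    (Nat.bijective_iff_injective_and_card f).mpr ⟨hfinj, by rw [hcard₁, hcard₂]⟩
  let θ' : π₁.ker ≃* π₂.ker := MulEquiv.ofBijective f hfbij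
  apply Cfsg.Agent.Lib.TwoFusion.Hig.iso_of_quadratic π₁ π₂ hsurj₁ hsurj₂ θ' hc₁ hc₂
  intro x₁ x₂ hx
  have hx' : (a x₁, b x₁) = (ca x₂, cb x₂) := by
    have : π₁ x₁ = π₂ x₂ := hx
    rw [hπ₁, hπ₂] at this
    exact congrArg Multiplicative.toAdd this
  have hxa : a x₁ = ca x₂ := congrArg Prod.fst hx'
  have hxb : b x₁ = cb x₂ := congrArg Prod.snd hx'
  refine ⟨(hmem₁ _).mpr (hsq x₁), ?_⟩
  obtain ⟨s1, s2, s3⟩ := sq_ut h2 x₂
  apply ut_ext
  · exact s1.symm
  · exact s2.symm
  · change θ (x₁ * x₁) = cc (x₂ * x₂)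
    rw [s3, ← hxa, ← hxb]
    have := hG0 x₁
    change θ (x₁ * x₁) + a x₁ * b x₁ = 0 at this
    linear_combination this - a x₁ * b x₁ * h2

end HY

end Cfsg.Agent.Lib.TwoFusion.Hyp
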