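import Cfsg.Agent.Lib.TwoFusion.Hyp.Iso
import Cfsg.Agent.Lib.TwoFusion.Hyp.Order8

/-!
# Non-abelian groups of order `64` with a fixed-point-free automorphism of order three
-/

set_option autoImplicit false
set_option linter.unusedSectionVars false
set_option linter.unusedVariables false
set_option linter.style.haveILetI false

namespace Cfsg.Agent.Lib.TwoFusion.Hyp

open scoped commutatorElement

variable {T : Type*} [Group T] {α : MulAut T} {V : Subgroup T}

namespace Fpf3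

lemma map_center (a : MulAut T) {z : T} (hz : z ∈ Subgroup.center T) : a z ∈ Subgroup.center T := by
  rw [Subgroup.mem_center_iff] at hz ⊢
  intro g
  obtain ⟨g', rfl⟩ := a.surjective g
  rw [← map_mul, ← map_mul, hz]

theorem center_card_four (S : Fpf3 α) (h64 : Nat.card T = 64) (hna : ∃ s t : T, s * t ≠ t * s) :
    Nat.card (Subgroup.center T) = 4 := by
  classical
  haveI := S.fin
  have hZinv : ∀ z ∈ Subgroup.center T, α z ∈ Subgroup.center T := fun z hz => map_center α hz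
  obtain ⟨s, t, hst⟩ := hna
  have hnt : Nontrivial T := by
    by_contra hc
    rw [not_nontrivial_iff_subsingleton] at hc
    exact hst (Subsingleton.elim _ _)
  have hZnt := S.p2.center_nontrivial
  obtain ⟨j, hj⟩ := S.card_eq_four_pow _ hZinv
  have hle : Nat.card (Subgroup.center T) ≤ 64 := by
    rw [← h64]
    exact Subgroup.card_le_card_group _
  have hjl : j ≤ 3 := by
    by_contra hc
    have : 4 ^ 4 ≤ 4 ^ j := Nat.pow_le_pow_right (by norm_num) (by omega)
    rw [← hj] at this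
    omega
  have hne1 : Nat.card (Subgroup.center T) ≠ 1 := Finite.one_lt_card.ne'
  interval_cases j
  · rw [pow_zero] at hj
    exact absurd hj hne1
  · simpa using hj
  · exfalso
    -- index four
    have hZne : Subgroup.center T ≠ ⊤ := by
      intro h
      apply hst
      have : s ∈ Subgroup.center T := by rw [h]; trivial
      exact (Subgroup.mem_center_iff.mp this t).symm
    obtain ⟨u, hu⟩ : ∃ u, u ∉ Subgroup.center T := by
      by_contra hc
      push Not at hc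
      apply hZne
      rw [eq_top_iff]
      intro x _
      exact hc x
    let C : Subgroup T := Subgroup.centralizer ({u, α u} : Set T)
    have hmem : ∀ t, t ∈ C ↔ (u * t = t * u ∧ α u * t = t * α u) := by
      intro t
      rw [Subgroup.mem_centralizer_iff]
      simp
    have hCinv : ∀ c ∈ C, α c ∈ C := by
      intro c hc
      obtain ⟨h1, h2⟩ := (hmem c).mp hc
      rw [hmem]
      have e1 : ⁅c, u⁆ = 1 := commutatorElement_eq_one_iff_mul_comm.mpr h1.symm
      constructor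
      · have e2 := S.cm_map2 c u
        rw [e1, map_one, map_one] at e2
        exact (commutatorElement_eq_one_iff_mul_comm.mp e2).symm
      · rw [← map_mul, ← map_mul, h1]
    obtain ⟨i, hi⟩ := S.card_eq_four_pow C hCinv
    have hZC : Subgroup.center T ≤ C := by
      intro z hz
      rw [hmem]
      exact ⟨Subgroup.mem_center_iff.mp hz u, Subgroup.mem_center_iff.mp hz (α u)⟩
    have huC : u ∈ C := by
      rw [hmem]
      exact ⟨rfl, (S.comm_map u).eq.symm⟩
    have hlt : Nat.card (Subgroup.center T) < Nat.card C := by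
      have hle := Subgroup.card_le_of_le hZC
      refine lt_of_le_of_ne hle ?_
      intro h
      have := Subgroup.eq_of_le_of_card_ge hZC h.ge
      exact hu (this ▸ huC)
    have hCle : Nat.card C ≤ 64 := by
      rw [← h64]
      exact Subgroup.card_le_card_group _
    rw [hj, hi] at hlt
    rw [hi] at hCle
    have hi3 : i = 3 := by
      have h1 : 2 < i := by
        by_contra hc
        have : 4 ^ i ≤ 4 ^ 2 := Nat.pow_le_pow_right (by norm_num) (by omega)
        omega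
      have h2 : i < 4 := by
        by_contra hc
        have : 4 ^ 4 ≤ 4 ^ i := Nat.pow_le_pow_right (by norm_num) (by omega)
        omega
      omega
    have hCtop : C = ⊤ := by
      apply Subgroup.eq_top_of_card_eq
      rw [hi, hi3, h64]
      norm_num
    apply hu
    rw [Subgroup.mem_center_iff]
    intro g
    have : g ∈ C := by rw [hCtop]; trivial
    exact ((hmem g).mp this).1.symm
  · exfalso
    have hZtop : Subgroup.center T = ⊤ := by
      apply Subgroup.eq_top_of_card_eq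
      rw [hj, h64]
      norm_num
    apply hst
    have : s ∈ Subgroup.center T := by rw [hZtop]; trivial
    exact (Subgroup.mem_center_iff.mp this t).symm

/-- The kernel condition from the order. -/
theorem hker_of_card (S : Fpf3 α) (hVα : ∀ v ∈ V, α v ∈ V) (hV4 : Nat.card V = 4)
    (hVc : ∀ v ∈ V, ∀ t : T, v * t = t * v) {x y : T} (hxV : ∀ t : T, ⁅t, x⁆ ∈ V)
    (hyV : ∀ t : T, ⁅t, y⁆ ∈ V) (hxy : ⁅x, y⁆ ≠ 1) (h64 : Nat.card T = 64) :
    ∀ t : T, ⁅t, x⁆ = 1 → ⁅t, y⁆ = 1 → t ∈ V := by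
  classical
  haveI := S.fin
  have hcm0 : ⁅x, y⁆ ∈ V := hyV x
  let φ : T →* V × V := MonoidHom.mk' (fun t => (⟨⁅t, y⁆, hyV t⟩, ⟨⁅t, x⁆, hxV t⟩)) (by
    intro s t
    apply Prod.ext
    · apply Subtype.ext
      exact S.cm_mul_left s t y
    · apply Subtype.ext
      exact S.cm_mul_left s t x)
  have hφ1 : ∀ t, ((φ t).1 : T) = ⁅t, y⁆ := fun _ => rfl
  have hφ2 : ∀ t, ((φ t).2 : T) = ⁅t, x⁆ := fun _ => rfl
  have hVi : ∀ {v : T}, v ∈ V → v⁻¹ = v := fun hv =>
    inv_eq_of_mul_eq_one_left (S.four_exp hVα hV4 hv)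
  have hself1 : ⁅α x, x⁆ = 1 := commutatorElement_eq_one_iff_mul_comm.mpr (S.comm_map x).eq.symm
  have hself2 : ⁅α (α x), x⁆ = 1 := by
    have := S.comm_map (α (α x))
    rw [S.cube] at this
    exact commutatorElement_eq_one_iff_mul_comm.mpr this.eq
  have hself3 : ⁅y, α y⁆ = 1 := commutatorElement_eq_one_iff_mul_comm.mpr (S.comm_map y).eq
  have hsurj : Function.Surjective φ := by
    rintro ⟨⟨v, hv⟩, ⟨w, hw⟩⟩
    -- first coordinate
    obtain ⟨s₁, h1, h2⟩ : ∃ s₁ : T, ⁅s₁, y⁆ = v ∧ ⁅s₁, x⁆ = 1 := by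
      rcases S.four_cases hVα hV4 hcm0 hxy hv with rfl | rfl | rfl | rfl
      · exact ⟨1, by simp, by simp⟩
      · exact ⟨x, rfl, commutatorElement_self x⟩
      · refine ⟨α (α x), ?_, hself2⟩
        rw [S.cm_map2, S.cm_map2, S.cube]
      · exact ⟨α x, S.cm_map2 x y, hself1⟩
    obtain ⟨s₂, h3, h4⟩ : ∃ s₂ : T, ⁅s₂, y⁆ = 1 ∧ ⁅s₂, x⁆ = w := by
      have hsw : ⁅y, x⁆ = ⁅x, y⁆ := by
        rw [cm_swap x y]
        exact hVi hcm0
      rcases S.four_cases hVα hV4 hcm0 hxy hw with rfl | rfl | rfl | rfl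
      · exact ⟨1, by simp, by simp⟩
      · exact ⟨y, commutatorElement_self y, hsw⟩
      · refine ⟨α (α y), ?_, ?_⟩
        · have := S.comm_map (α (α y))
          rw [S.cube] at this
          exact commutatorElement_eq_one_iff_mul_comm.mpr this.eq
        · rw [S.cm_map2, S.cm_map2, S.cube, hsw]
      · refine ⟨α y, ?_, ?_⟩
        · exact commutatorElement_eq_one_iff_mul_comm.mpr (S.comm_map y).eq.symm
        · rw [S.cm_map2, hsw]
    refine ⟨s₁ * s₂, ?_⟩
    apply Prod.ext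
    · apply Subtype.ext
      change ⁅s₁ * s₂, y⁆ = v
      rw [S.cm_mul_left, h1, h3, mul_one]
    · apply Subtype.ext
      change ⁅s₁ * s₂, x⁆ = w
      rw [S.cm_mul_left, h2, h4, one_mul]
  have hkercard : Nat.card φ.ker = 4 := by
    have h1 := φ.ker.card_mul_index
    rw [Subgroup.index_ker, MonoidHom.range_eq_top.mpr hsurj, Subgroup.card_top, Nat.card_prod, hV4, h64] at h1
    omega
  have hVker : V ≤ φ.ker := by
    intro v hv
    rw [MonoidHom.mem_ker]
    apply Prod.ext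
    · apply Subtype.ext
      exact commutatorElement_eq_one_iff_mul_comm.mpr (hVc v hv y)
    · apply Subtype.ext
      exact commutatorElement_eq_one_iff_mul_comm.mpr (hVc v hv x)
  have hVeq : V = φ.ker := Subgroup.eq_of_le_of_card_ge hVker (by rw [hV4, hkercard])
  intro t h1 h2
  rw [hVeq, MonoidHom.mem_ker]
  apply Prod.ext
  · apply Subtype.ext
    exact h2
  · apply Subtype.ext
    exact h1

end Fpf3

section Sigma

variable {σ : MulAut T}

/-- Fixed points of an automorphism inverting `α` have order at most the square root. -/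
theorem card_fix_sq_le (S : Fpf3 α) (hσ2 : ∀ t, σ (σ t) = t) (hσα : ∀ t, σ (α t) = α (α (σ t)))
    (C : Subgroup T) (hC : ∀ y : T, y ∈ C ↔ σ y = y) : Nat.card C * Nat.card C ≤ Nat.card T := by
  classical
  haveI := S.fin
  rw [← Nat.card_prod]
  apply Nat.card_le_card_of_injective (fun p : C × C => p.1.1 * α p.2.1)
  rintro ⟨⟨a, ha⟩, ⟨b, hb⟩⟩ ⟨⟨a', ha'⟩, ⟨b', hb'⟩⟩ h
  have h0 : a * α b = a' * α b' := h
  have h1 : a'⁻¹ * a = α b' * (α b)⁻¹ := by
    have : a'⁻¹ * (a * α b) * (α b)⁻¹ = a'⁻¹ * (a' * α b') * (α b)⁻¹ := by rw [h0]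
    simpa [mul_assoc] using this
  have hA : σ a = a := (hC a).mp ha
  have hA' : σ a' = a' := (hC a').mp ha'
  have hB : σ b = b := (hC b).mp hb
  have hB' : σ b' = b' := (hC b').mp hb'
  -- apply `σ`
  have h2 : a'⁻¹ * a = α (α b') * (α (α b))⁻¹ := by
    have h3 := congrArg σ h1
    simp only [map_mul, map_inv, hA, hA', hσα, hB, hB'] at h3
    exact h3
  -- `w = b' b⁻¹` satisfies `α w = α² w`
  have h4 : α (b' * b⁻¹) = α (α (b' * b⁻¹)) := by
    simp only [map_mul, map_inv]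
    rw [← h1, h2]
  have h5 : b' * b⁻¹ = α (b' * b⁻¹) := α.injective h4
  have h6 : b' * b⁻¹ = 1 := S.fpf _ h5.symm
  have hbb : b' = b := mul_inv_eq_one.mp h6
  subst hbb
  have h7 : a'⁻¹ * a = 1 := by rw [h1]; group
  have haa : a' = a := inv_mul_eq_one.mp h7
  subst haa
  rfl

/-- Structure of the centre. -/
structure Str (α : MulAut T) : Prop where
  S : Fpf3 α
  h64 : Nat.card T = 64
  hna : ∃ s t : T, s * t ≠ t * s

namespace Str

variable (H : Str α)
include H

lemma card_Z : Nat.card (Subgroup.center T) = 4 := H.S.center_card_four H.h64 H.hna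

lemma Z_inv : ∀ z ∈ Subgroup.center T, α z ∈ Subgroup.center T := fun z hz => Fpf3.map_center α hz

lemma Z_exp {z : T} (hz : z ∈ Subgroup.center T) : z * z = 1 := H.S.four_exp H.Z_inv H.card_Z hz

lemma Z_comm {z : T} (hz : z ∈ Subgroup.center T) (t : T) : z * t = t * z :=
  (Subgroup.mem_center_iff.mp hz t).symm

lemma cm_Z (s t : T) : ⁅s, t⁆ ∈ Subgroup.center T := by
  rw [Subgroup.mem_center_iff]
  intro g
  exact H.S.cm_comm g s t

lemma sq_Z (t : T) : t * t ∈ Subgroup.center T := by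
  rw [Subgroup.mem_center_iff]
  intro g
  have h : ⁅g, t * t⁆ = 1 := by
    rw [H.S.cm_mul_right]
    exact H.Z_exp (H.cm_Z g t)
  exact commutatorElement_eq_one_iff_mul_comm.mp h

lemma Z_inv' {z : T} (hz : z ∈ Subgroup.center T) : z⁻¹ = z := inv_eq_of_mul_eq_one_left (H.Z_exp hz)

lemma cm_symm (s t : T) : ⁅s, t⁆ = ⁅t, s⁆ := by
  rw [Fpf3.cm_swap s t, H.Z_inv' (H.cm_Z _ _)]

lemma Z_N {z : T} (hz : z ∈ Subgroup.center T) : z * α (α z) = α z := by
  have h := H.S.norm z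
  have hc := H.Z_comm hz (α z)
  have h1 : α z * (z * α (α z)) = 1 := by
    rw [← mul_assoc, ← hc]
    exact h
  have h2 := eq_inv_of_mul_eq_one_right h1
  rw [h2]
  exact H.Z_inv' (H.Z_inv z hz)

variable {σ : MulAut T} (hσ2 : ∀ t, σ (σ t) = t) (hσα : ∀ t, σ (α t) = α (α (σ t)))
include hσ2 hσα

lemma exists_z0 : ∃ z₀ ∈ Subgroup.center T, z₀ ≠ 1 ∧ σ z₀ = z₀ := by
  classical
  have S := H.S
  haveI := S.fin
  obtain ⟨v, hv⟩ : ∃ v : Subgroup.center T, v ≠ 1 := by
    have : Nontrivial (Subgroup.center T) := by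
      apply Finite.one_lt_card_iff_nontrivial.mp
      rw [H.card_Z]
      norm_num
    exact exists_ne 1
  have hv1 : (v : T) ≠ 1 := fun h => hv (Subtype.ext h)
  have hsv : σ v.1 ∈ Subgroup.center T := Fpf3.map_center σ v.2
  have hsv1 : σ v.1 ≠ 1 := Fpf3.map_ne_one (α := σ) v.1 hv1
  rcases S.four_cases H.Z_inv H.card_Z v.2 hv1 hsv with h | h | h | h
  · exact absurd h hsv1
  · exact ⟨v.1, v.2, hv1, h⟩
  · refine ⟨α (α v.1), H.Z_inv _ (H.Z_inv _ v.2), Fpf3.map_ne_one _ (Fpf3.map_ne_one _ hv1), ?_⟩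
    rw [hσα, hσα, h, S.cube]
  · refine ⟨α v.1, H.Z_inv _ v.2, Fpf3.map_ne_one _ hv1, ?_⟩
    rw [hσα, h, S.cube]

lemma exists_lift {z₀ : T} (hz : z₀ ∈ Subgroup.center T) (hz1 : z₀ ≠ 1) (hσz : σ z₀ = z₀) {t : T}
    (ht : t⁻¹ * σ t ∈ Subgroup.center T) : ∃ u ∈ Subgroup.center T, σ (t * u) = t * u := by
  have S := H.S
  set v := t⁻¹ * σ t with hv
  have hst : σ t = t * v := by rw [hv]; group
  have h1 : v * σ v = 1 := by
    have h2 := hσ2 t
    rw [hst, map_mul, hst] at h2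
    have h3 : t * (v * σ v) = t * 1 := by
      rw [mul_one, ← mul_assoc]
      exact h2
    exact mul_left_cancel h3
  have h4 : σ v = v := by
    have := eq_inv_of_mul_eq_one_right h1
    rw [this, H.Z_inv' ht]
  obtain ⟨a1, a2, a3⟩ := S.ne_of_ne_one hz1
  rcases S.four_cases H.Z_inv H.card_Z hz hz1 ht with h | h | h | h
  · refine ⟨1, Subgroup.one_mem _, ?_⟩
    rw [mul_one, hst, h, mul_one]
  · refine ⟨α z₀, H.Z_inv _ hz, ?_⟩
    rw [map_mul, hst, h, hσα, hσz, mul_assoc, H.Z_N hz]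
  · exfalso
    rw [h, hσα, hσz] at h4
    exact a3 h4
  · exfalso
    rw [h, hσα, hσα, hσz, S.cube] at h4
    exact a3 h4.symm

lemma trace_fix (g : T) : (g * σ g)⁻¹ * σ (g * σ g) ∈ Subgroup.center T := by
  have e : (g * σ g)⁻¹ * σ (g * σ g) = ⁅(σ g)⁻¹, g⁻¹⁆ := by
    rw [map_mul, hσ2, commutatorElement_def]
    group
  rw [e]
  exact H.cm_Z _ _

lemma exists_trace_ne : ∃ t : T, t * σ t ∉ Subgroup.center T := by
  classical
  have S := H.S
  haveI := S.fin
  by_contra hcon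
  push Not at hcon
  -- any `t` lies in the centre
  have hall : ∀ t : T, t ∈ Subgroup.center T := by
    intro t
    apply S.mem_of_fixed_mod _ H.Z_inv
    -- `w = t (α t)⁻¹`
    have h1 : t * σ t ∈ Subgroup.center T := hcon t
    have h2 := hcon (α t)
    rw [hσα] at h2
    -- `σ t = t⁻¹ v`
    set v := t * σ t with hv
    have hst : σ t = t⁻¹ * v := by rw [hv]; group
    rw [hst, map_mul, map_mul, map_inv, map_inv] at h2
    have h3 : α t * ((α (α t))⁻¹ * α (α v)) = (α t * (α (α t))⁻¹) * α (α v) := by group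
    rw [h3] at h2
    have h4 : α t * (α (α t))⁻¹ ∈ Subgroup.center T := by
      have h5 := Subgroup.mul_mem _ h2 (Subgroup.inv_mem _ (H.Z_inv _ (H.Z_inv _ h1)))
      simpa using h5
    -- apply `α²`
    have h5 := H.Z_inv _ (H.Z_inv _ h4)
    simp only [map_mul, map_inv, S.cube] at h5
    have h6 := Subgroup.inv_mem _ h5
    -- `(t (α t)⁻¹)⁻¹ = α t t⁻¹`, conjugate to `t⁻¹ α t`
    rw [mul_inv_rev, inv_inv] at h6
    have e : t⁻¹ * α t = t⁻¹ * (α t * t⁻¹) * t := by group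
    rw [e]
    have hz := H.Z_comm h6 t
    rw [mul_assoc, hz]
    have : t⁻¹ * (t * (α t * t⁻¹)) = α t * t⁻¹ := by group
    rw [this]
    exact h6
  obtain ⟨s, t, hst⟩ := H.hna
  exact hst (H.Z_comm (hall s) t)

/-- Two non-commuting fixed elements. -/
theorem exists_fixed_noncomm : ∃ z₀ c₁ c₂ : T, z₀ ∈ Subgroup.center T ∧ z₀ ≠ 1 ∧ σ z₀ = z₀ ∧ σ c₁ = c₁ ∧
    σ c₂ = c₂ ∧ ⁅c₁, c₂⁆ = z₀ := by
  classical
  have S := H.S
  obtain ⟨z₀, hz, hz1, hσz⟩ := H.exists_z0 hσ2 hσα
  obtain ⟨a1, a2, a3⟩ := S.ne_of_ne_one hz1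
  obtain ⟨t, ht⟩ := H.exists_trace_ne hσ2 hσα
  obtain ⟨u, hu, hc1⟩ := H.exists_lift hσ2 hσα hz hz1 hσz (H.trace_fix hσ2 hσα t)
  set c₁ := t * σ t * u with hc₁
  have hc₁Z : c₁ ∉ Subgroup.center T := by
    intro h
    apply ht
    have := Subgroup.mul_mem _ h (Subgroup.inv_mem _ hu)
    rw [hc₁] at this
    simpa using this
  obtain ⟨g, hg⟩ : ∃ g : T, ⁅c₁, g⁆ ≠ 1 := by
    by_contra hcon
    push Not at hcon
    apply hc₁Z
    rw [Subgroup.mem_center_iff]
    intro g
    exact (commutatorElement_eq_one_iff_mul_comm.mp (hcon g)).symm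
  -- scaling
  obtain ⟨g', hg'⟩ : ∃ g' : T, ⁅c₁, g'⁆ = α z₀ := by
    rcases S.four_cases H.Z_inv H.card_Z hz hz1 (H.cm_Z c₁ g) with h | h | h | h
    · exact absurd h hg
    · refine ⟨α (α g), ?_⟩
      rw [S.cm_map_right, S.cm_map_right, h, S.cube]
    · exact ⟨g, h⟩
    · refine ⟨α g, ?_⟩
      rw [S.cm_map_right, h, S.cube]
  obtain ⟨w, hw, hc2⟩ := H.exists_lift hσ2 hσα hz hz1 hσz (H.trace_fix hσ2 hσα g')
  refine ⟨z₀, c₁, g' * σ g' * w, hz, hz1, hσz, hc1, hc2, ?_⟩
  have hwc : ⁅c₁, w⁆ = 1 := commutatorElement_eq_one_iff_mul_comm.mpr (H.Z_comm hw c₁).symm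
  rw [S.cm_mul_right, S.cm_mul_right, hwc, mul_one, hg']
  -- `⁅c₁, σ g'⁆ = σ ⁅c₁, g'⁆`
  have e : ⁅c₁, σ g'⁆ = σ ⁅c₁, g'⁆ := by
    rw [map_commutatorElement, hc1]
  rw [e, hg', hσα, hσz, ]
  have h7 := S.norm' z₀
  have h8 := eq_inv_of_mul_eq_one_left h7
  rw [h8]
  exact H.Z_inv' hz

/-- **The hyperbolic data.** -/
theorem exists_HY : ∃ x y : T, HY α (Subgroup.center T) x y := by
  classical
  have S := H.S
  obtain ⟨z₀, a, b, hz, hz1, hσz, ha, hb, hab⟩ := H.exists_fixed_noncomm hσ2 hσα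
  have hZV : ∀ v ∈ Subgroup.center T, σ v = v → v = 1 ∨ v = z₀ := by
    intro v hv hfix
    obtain ⟨a1, a2, a3⟩ := S.ne_of_ne_one hz1
    rcases S.four_cases H.Z_inv H.card_Z hz hz1 hv with h | h | h | h
    · exact Or.inl h
    · exact Or.inr h
    · exfalso
      rw [h, hσα, hσz] at hfix
      exact a3 hfix
    · exfalso
      rw [h, hσα, hσα, hσz, S.cube] at hfix
      exact a3 hfix.symm
  have hmk : ∀ x y : T, x * x = 1 → y * y = 1 → ⁅x, y⁆ ≠ 1 → HY α (Subgroup.center T) x y := by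
    intro x y hx hy hxy
    exact ⟨S, H.Z_inv, H.card_Z, fun v hv t => H.Z_comm hv t, hx, hy, hxy, fun t => H.cm_Z t x,
      fun t => H.cm_Z t y, Fpf3.hker_of_card S H.Z_inv H.card_Z (fun v hv t => H.Z_comm hv t)
        (fun t => H.cm_Z t x) (fun t => H.cm_Z t y) hxy H.h64⟩
  have hsa : a * a = 1 ∨ a * a = z₀ := hZV _ (H.sq_Z a) (by rw [map_mul, ha])
  have hsb : b * b = 1 ∨ b * b = z₀ := hZV _ (H.sq_Z b) (by rw [map_mul, hb])
  have hba : ⁅b, a⁆ = z₀ := by rw [H.cm_symm, hab]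
  have hzz : z₀ * z₀ = 1 := H.Z_exp hz
  rcases hsa with h1 | h1 <;> rcases hsb with h2 | h2
  · exact ⟨a, b, hmk _ _ h1 h2 (by rw [hab]; exact hz1)⟩
  · refine ⟨a, a * b, hmk _ _ h1 ?_ ?_⟩
    · rw [S.sq_mul, h1, h2, hba, one_mul, hzz]
    · rw [S.cm_mul_right, commutatorElement_self, one_mul, hab]
      exact hz1
  · refine ⟨b, a * b, hmk _ _ h2 ?_ ?_⟩
    · rw [S.sq_mul, h1, h2, hba, mul_one, hzz]
    · rw [S.cm_mul_right, commutatorElement_self, mul_one, hba]
      exact hz1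
  · have h3 : ⁅α a, b⁆ = α (α z₀) := by rw [S.cm_map2, hab]
    have h4 : ⁅α (α a), b⁆ = α z₀ := by rw [S.cm_map2, S.cm_map2, hab, S.cube]
    have h5 : α a * α a = α z₀ := by rw [← map_mul, h1]
    have h6 : α (α a) * α (α a) = α (α z₀) := by rw [← map_mul, ← map_mul, h1]
    have hzα : α z₀ ∈ Subgroup.center T := H.Z_inv _ hz
    have hzαα : α (α z₀) ∈ Subgroup.center T := H.Z_inv _ hzα
    have hN := S.norm z₀
    refine ⟨α a * b, α (α a) * b, hmk _ _ ?_ ?_ ?_⟩
    · rw [S.sq_mul, h5, h2, H.cm_symm, h3, H.Z_comm hzα z₀]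
      exact hN
    · rw [S.sq_mul, h6, h2, H.cm_symm, h4, H.Z_comm hzαα z₀, mul_assoc, H.Z_comm hzαα (α z₀), ← mul_assoc]
      exact hN
    · have hself : ⁅α a, α (α a)⁆ = 1 := commutatorElement_eq_one_iff_mul_comm.mpr (S.comm_map (α a)).eq
      rw [S.cm_mul_right, S.cm_mul_left, S.cm_mul_left, hself, commutatorElement_self, one_mul, mul_one, h3,
        H.cm_symm b, h4]
      -- `α² z₀ * α z₀ = z₀`
      have e : α z₀ * α (α z₀) ≠ 1 := by
        intro h
        have h7 := eq_inv_of_mul_eq_one_right h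
        rw [H.Z_inv' hzα] at h7
        exact (S.ne_of_ne_one hz1).2.2 h7
      exact e

end Str

end Sigma

end Cfsg.Agent.Lib.TwoFusion.Hyp
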