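import Cfsg.Agent.Lib.TwoFusion.Hyp.Iso
import Cfsg.Agent.Lib.TwoFusion.Hyp.S64

/-!
# Two-groups with a fixed-point-free automorphism of order three and an involutory automorphism
whose fixed points form a central four-group
-/

set_option autoImplicit false
set_option linter.unusedSectionVars false
set_option linter.unusedVariables false
set_option linter.style.haveILetI false

namespace Cfsg.Agent.Lib.TwoFusion.Hyp

open scoped commutatorElement

variable {T : Type*} [Group T]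

/-- An involutory endomorphism of a finite `2`-group has a non-trivial fixed point in every non-trivial
invariant subgroup. -/
lemma exists_fixed {Q : Type*} [Group Q] [Finite Q] (hQ : IsPGroup 2 Q) (K : Subgroup Q) (hK : K ≠ ⊥)
    (f : Q →* Q) (hf2 : ∀ q, f (f q) = q) (hfK : ∀ k ∈ K, f k ∈ K) : ∃ k ∈ K, k ≠ 1 ∧ f k = k := by
  classical
  haveI : Fintype K := Fintype.ofFinite K
  haveI : Fact (Nat.Prime 2) := ⟨Nat.prime_two⟩
  let g : Function.End K := fun u => ⟨f u.1, hfK _ u.2⟩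
  have hg : g ^ 2 ^ 1 = 1 := by
    funext y
    apply Subtype.ext
    exact hf2 y.1
  have h := Equiv.Perm.card_fixedPoints_modEq (p := 2) hg
  obtain ⟨k, hk⟩ := IsPGroup.iff_card.mp (hQ.to_subgroup K)
  have hk0 : k ≠ 0 := by
    rintro rfl
    apply hK
    rw [pow_zero] at hk
    exact Subgroup.card_eq_one.mp hk
  rw [← Nat.card_eq_fintype_card, hk] at h
  have h2 : Nat.card (Function.fixedPoints g) % 2 = 0 := by
    have h3 := h
    unfold Nat.ModEq at h3
    rw [Nat.card_eq_fintype_card]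
    rw [← h3]
    obtain ⟨m, rfl⟩ := Nat.exists_eq_succ_of_ne_zero hk0
    rw [pow_succ]
    omega
  have hone : (1 : K) ∈ Function.fixedPoints g := by
    apply Subtype.ext
    exact map_one f
  by_contra hcon
  push Not at hcon
  have huniq : Nat.card (Function.fixedPoints g) = 1 := by
    rw [Nat.card_eq_one_iff_unique]
    refine ⟨⟨?_⟩, ⟨⟨1, hone⟩⟩⟩
    rintro ⟨a, ha⟩ ⟨b, hb⟩
    have ha1 : a = 1 := by
      by_contra hne
      apply hcon a.1 a.2 (fun h => hne (Subtype.ext h))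
      exact congrArg Subtype.val ha
    have hb1 : b = 1 := by
      by_contra hne
      apply hcon b.1 b.2 (fun h => hne (Subtype.ext h))
      exact congrArg Subtype.val hb
    apply Subtype.ext
    exact ha1.trans hb1.symm
  rw [huniq] at h2
  omega

variable {α τ : MulAut T} {V : Subgroup T}

/-- The hypotheses of the section. -/
structure TauSetup (α τ : MulAut T) (V : Subgroup T) : Prop where
  S : Fpf3 α
  hVα : ∀ v ∈ V, α v ∈ V
  card_V : Nat.card V = 4
  central : ∀ v ∈ V, ∀ t : T, v * t = t * v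
  hτ2 : ∀ t, τ (τ t) = t
  hτα : ∀ t, τ (α t) = α (τ t)
  hC : ∀ t, τ t = t ↔ t ∈ V

namespace TauSetup

variable (H : TauSetup α τ V)
include H

lemma V_exp {v : T} (hv : v ∈ V) : v * v = 1 := H.S.four_exp H.hVα H.card_V hv

lemma V_inv {v : T} (hv : v ∈ V) : v⁻¹ = v := inv_eq_of_mul_eq_one_left (H.V_exp hv)

lemma V_normal : V.Normal := ⟨by
  intro n hn g
  rw [← H.central n hn g]
  simpa using hn⟩

/-- The second level. -/
def L (H : TauSetup α τ V) : Subgroup T where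
  carrier := {u | u⁻¹ * τ u ∈ V}
  one_mem' := by
    change (1 : T)⁻¹ * τ 1 ∈ V
    simp [V.one_mem]
  mul_mem' := by
    intro a b ha hb
    change (a * b)⁻¹ * τ (a * b) ∈ V
    have ha' : a⁻¹ * τ a ∈ V := ha
    have hb' : b⁻¹ * τ b ∈ V := hb
    have e : (a * b)⁻¹ * τ (a * b) = b⁻¹ * (a⁻¹ * τ a) * τ b := by
      rw [map_mul]; group
    rw [e, ← H.central _ ha' b⁻¹]
    have : a⁻¹ * τ a * b⁻¹ * τ b = a⁻¹ * τ a * (b⁻¹ * τ b) := by group
    rw [this]
    exact V.mul_mem ha' hb'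
  inv_mem' := by
    intro a ha
    change a⁻¹⁻¹ * τ a⁻¹ ∈ V
    have ha' : a⁻¹ * τ a ∈ V := ha
    -- `a (τ a)⁻¹`
    have h1 := V.inv_mem ha'
    have e : a⁻¹⁻¹ * τ a⁻¹ = (τ a) * ((a⁻¹ * τ a)⁻¹) * (τ a)⁻¹ := by
      rw [map_inv]; group
    rw [e, mul_assoc, H.central _ h1 (τ a)⁻¹, ← mul_assoc]
    simpa using h1

lemma mem_L {u : T} : u ∈ H.L ↔ u⁻¹ * τ u ∈ V := Iff.rfl

lemma V_le_L : V ≤ H.L := by
  intro v hv
  rw [H.mem_L, (H.hC v).mpr hv]
  simp [V.one_mem]

lemma L_inv (u : T) (hu : u ∈ H.L) : τ u ∈ H.L := by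
  rw [H.mem_L, H.hτ2]
  have h1 := V.inv_mem (H.mem_L.mp hu)
  simpa using h1

lemma phi_eq {u w : T} (hu : u ∈ H.L) (h : u⁻¹ * τ u = w⁻¹ * τ w) : w⁻¹ * u ∈ V := by
  rw [← H.hC]
  have h1 := H.mem_L.mp hu
  rw [map_mul, map_inv]
  have e1 : τ u = u * (u⁻¹ * τ u) := by group
  have e2 : τ w = w * (u⁻¹ * τ u) := by rw [h]; group
  rw [e1, e2]
  have := H.central _ h1 u
  calc (w * (u⁻¹ * τ u))⁻¹ * (u * (u⁻¹ * τ u))
      = (u⁻¹ * τ u)⁻¹ * w⁻¹ * (u * (u⁻¹ * τ u)) := by group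
    _ = (u⁻¹ * τ u)⁻¹ * w⁻¹ * ((u⁻¹ * τ u) * u) := by rw [this]
    _ = w⁻¹ * u := by
      have h2 := H.central _ (V.inv_mem h1) w⁻¹
      rw [h2]
      group

lemma fixed_of_trivial {u : T} (h : u⁻¹ * τ u = 1) : u ∈ V := by
  rw [← H.hC]
  exact (inv_mul_eq_one.mp h).symm

/-- **Elementary abelian case.** -/
theorem e16 {y : T} (hyV : y ∉ V) (hy2 : y * y = 1) (hyL : y⁻¹ * τ y ∈ V) (hyc : ∀ t : T, ⁅t, y⁆ ∈ V) :
    Nat.card T = 16 ∧ ∀ x : T, x * x = 1 := by
  classical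
  have S := H.S
  haveI := S.fin
  set w := y⁻¹ * τ y with hw
  have hw1 : w ≠ 1 := fun h => hyV (H.fixed_of_trivial h)
  have hαL : ∀ u ∈ H.L, α u ∈ H.L := by
    intro u hu
    rw [H.mem_L]
    have := H.hVα _ (H.mem_L.mp hu)
    rw [map_mul, map_inv, ← H.hτα] at this
    exact this
  -- the form of the elements of `L`
  have hform : ∀ u ∈ H.L, ∃ s v : T, (s * s = 1 ∧ s ∈ H.L ∧ ∀ g : T, ⁅g, s⁆ ∈ V) ∧ v ∈ V ∧ u = s * v := by
    intro u hu
    have hφ := H.mem_L.mp hu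
    have hcases := S.four_cases H.hVα H.card_V hyL hw1 hφ
    have hmk : ∀ s : T, s * s = 1 → s ∈ H.L → (∀ g : T, ⁅g, s⁆ ∈ V) → u⁻¹ * τ u = s⁻¹ * τ s →
        ∃ s v : T, (s * s = 1 ∧ s ∈ H.L ∧ ∀ g : T, ⁅g, s⁆ ∈ V) ∧ v ∈ V ∧ u = s * v := by
      intro s h1 h2 h3 h4
      have h5 := H.phi_eq hu h4
      exact ⟨s, s⁻¹ * u, ⟨h1, h2, h3⟩, h5, by group⟩
    have hyLL : y ∈ H.L := hyL
    rcases hcases with h | h | h | h
    · refine hmk 1 (by simp) (Subgroup.one_mem _) (fun g => by simp [V.one_mem]) ?_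
      rw [h]
      simp
    · exact hmk y hy2 hyLL hyc h
    · refine hmk (α y) (by rw [← map_mul, hy2, map_one]) (hαL _ hyLL) (fun g => ?_) ?_
      · rw [S.cm_map_right]
        exact H.hVα _ (H.hVα _ (hyc g))
      · rw [h, hw, map_mul, map_inv, H.hτα]
    · refine hmk (α (α y)) (by rw [← map_mul, ← map_mul, hy2, map_one, map_one]) (hαL _ (hαL _ hyLL))
        (fun g => ?_) ?_
      · rw [S.cm_map_right, S.cm_map_right]
        exact H.hVα _ (H.hVα _ (H.hVα _ (H.hVα _ (hyc g))))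
      · rw [h, hw, map_mul, map_inv, map_mul, map_inv, H.hτα, H.hτα]
  have hLexp : ∀ u ∈ H.L, u * u = 1 := by
    intro u hu
    obtain ⟨s, v, ⟨h1, -, -⟩, hv, rfl⟩ := hform u hu
    calc s * v * (s * v) = s * (v * s) * v := by group
      _ = s * (s * v) * v := by rw [H.central v hv s]
      _ = (s * s) * (v * v) := by group
      _ = 1 := by rw [h1, H.V_exp hv, one_mul]
  haveI hLn : H.L.Normal := ⟨by
    intro u hu g
    obtain ⟨s, v, ⟨h1, h2, h3⟩, hv, rfl⟩ := hform u hu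
    have h4 := h3 g
    have e : g * (s * v) * g⁻¹ = ⁅g, s⁆ * s * v := by
      have := H.central v hv g⁻¹
      rw [commutatorElement_def]
      calc g * (s * v) * g⁻¹ = g * s * (v * g⁻¹) := by group
        _ = g * s * (g⁻¹ * v) := by rw [this]
        _ = g * s * g⁻¹ * s⁻¹ * s * v := by group
    rw [e]
    exact H.L.mul_mem (H.L.mul_mem (H.V_le_L h4) h2) (H.V_le_L hv)⟩
  -- `L` is everything
  have hLtop : H.L = ⊤ := by
    by_contra hne
    let Q := T ⧸ H.L
    let π : T →* Q := QuotientGroup.mk' H.L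
    have hQ : IsPGroup 2 Q := S.p2.to_quotient H.L
    let f : Q →* Q := QuotientGroup.map H.L H.L τ.toMonoidHom (fun u hu => H.L_inv u hu)
    have hfπ : ∀ t, f (π t) = π (τ t) := fun t => rfl
    have hf2 : ∀ q, f (f q) = q := by
      intro q
      obtain ⟨t, rfl⟩ := QuotientGroup.mk'_surjective H.L q
      rw [hfπ, hfπ, H.hτ2]
    have hK : (⊤ : Subgroup Q) ≠ ⊥ := by
      intro h
      apply hne
      rw [eq_top_iff]
      intro t _
      have : π t ∈ (⊥ : Subgroup Q) := by rw [← h]; trivial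
      exact (QuotientGroup.eq_one_iff t).mp (Subgroup.mem_bot.mp this)
    obtain ⟨q, -, hq1, hq2⟩ := exists_fixed hQ ⊤ hK f hf2 (fun _ _ => trivial)
    obtain ⟨x, rfl⟩ := QuotientGroup.mk'_surjective H.L q
    have hxL : x ∉ H.L := fun h => hq1 ((QuotientGroup.eq_one_iff x).mpr h)
    have hu : x⁻¹ * τ x ∈ H.L := by
      have h1 : π (τ x) = π x := hq2
      have h2 : π (x⁻¹ * τ x) = 1 := by
        rw [map_mul, map_inv, h1]; group
      exact (QuotientGroup.eq_one_iff _).mp h2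
    set u := x⁻¹ * τ x with hudef
    have h3 : u * τ u = 1 := by
      rw [hudef, map_mul, map_inv, H.hτ2]
      group
    have h4 : τ u = u := by
      have h5 := hLexp u hu
      have h6 : τ u = u⁻¹ := eq_inv_of_mul_eq_one_right h3
      rw [h6]
      exact inv_eq_of_mul_eq_one_left h5
    exact hxL ((H.hC u).mp h4)
  have hall : ∀ x : T, x ∈ H.L := fun x => by rw [hLtop]; trivial
  refine ⟨?_, fun x => hLexp x (hall x)⟩
  -- the order
  obtain ⟨j, hj⟩ := S.card_eq_four_pow ⊤ (fun _ _ => trivial)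
  rw [Subgroup.card_top] at hj
  let φ : T →* V := MonoidHom.mk' (fun u => ⟨u⁻¹ * τ u, hall u⟩) (by
    intro a b
    apply Subtype.ext
    change (a * b)⁻¹ * τ (a * b) = (a⁻¹ * τ a) * (b⁻¹ * τ b)
    have ha' : a⁻¹ * τ a ∈ V := hall a
    have e : (a * b)⁻¹ * τ (a * b) = b⁻¹ * (a⁻¹ * τ a) * τ b := by
      rw [map_mul]; group
    rw [e, ← H.central _ ha' b⁻¹]
    group)
  have hkerle : Nat.card φ.ker ≤ 4 := by
    have hinj : Function.Injective (fun u : φ.ker => (⟨u.1, by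
        rw [← H.hC]
        have h1 : φ u.1 = 1 := u.2
        have h2 : u.1⁻¹ * τ u.1 = 1 := congrArg Subtype.val h1
        exact (inv_mul_eq_one.mp h2).symm⟩ : V)) := by
      intro a b hab
      apply Subtype.ext
      exact congrArg (fun z : V => (z : T)) hab
    have := Nat.card_le_card_of_injective _ hinj
    rwa [H.card_V] at this
  have hrange : Nat.card φ.range ≤ 4 := by
    have h1 := Subgroup.card_le_card_group φ.range
    rwa [H.card_V] at h1
  have hle : Nat.card T ≤ 16 := by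
    have h1 := φ.ker.card_mul_index
    rw [Subgroup.index_ker] at h1
    rw [← h1]
    nlinarith
  have hVlt : 4 < Nat.card T := by
    have h1 : V ≠ ⊤ := by
      intro h
      apply hyV
      rw [h]
      trivial
    have h2 := Subgroup.card_le_card_group V
    rw [H.card_V] at h2
    refine lt_of_le_of_ne h2 ?_
    intro h3
    apply h1
    apply Subgroup.eq_top_of_card_eq
    rw [H.card_V, h3]
  rw [hj] at hle hVlt ⊢
  have hj2 : j = 2 := by
    have h1 : 1 < j := by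
      by_contra hc
      have : 4 ^ j ≤ 4 ^ 1 := Nat.pow_le_pow_right (by norm_num) (by omega)
      omega
    have h2 : j < 3 := by
      by_contra hc
      have : 4 ^ 3 ≤ 4 ^ j := Nat.pow_le_pow_right (by norm_num) (by omega)
      omega
    omega
  rw [hj2]
  norm_num

/-- **The dichotomy in the presence of an involution outside `V`.** -/
theorem main_B {y : T} (hyV : y ∉ V) (hy2 : y * y = 1) :
    (Nat.card T = 16 ∧ ∀ x : T, x * x = 1) ∨ ∃ a b : T, HY α V a b := by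
  classical
  have S := H.S
  haveI := S.fin
  by_cases hZ : ∃ z ∈ Subgroup.center T, z ∉ V ∧ z * z = 1
  · left
    obtain ⟨z, hz, hzV, hz2⟩ := hZ
    refine H.e16 hzV hz2 ?_ ?_
    · have hzi : z⁻¹ = z := inv_eq_of_mul_eq_one_left hz2
      have hzi' : (τ z)⁻¹ = τ z := inv_eq_of_mul_eq_one_left (by rw [← map_mul, hz2, map_one])
      rw [← H.hC, map_mul, map_inv, H.hτ2, hzi, hzi']
      exact Subgroup.mem_center_iff.mp hz (τ z)
    · intro t
      have : ⁅t, z⁆ = 1 := commutatorElement_eq_one_iff_mul_comm.mpr (Subgroup.mem_center_iff.mp hz t)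
      rw [this]
      exact V.one_mem
  push Not at hZ
  -- commutators with involutions lie in `V`
  have hcm : ∀ {u : T}, u * u = 1 → ∀ t : T, ⁅t, u⁆ ∈ V := by
    intro u hu t
    by_contra hc
    have h1 : ⁅t, u⁆ ∈ Subgroup.center T := by
      rw [Subgroup.mem_center_iff]
      intro g
      exact S.cm_comm g t u
    apply hZ _ h1 hc
    rw [← S.cm_mul_right, hu, commutatorElement_one_right]
  by_cases hL : y⁻¹ * τ y ∈ V
  · exact Or.inl (H.e16 hyV hy2 hL (hcm hy2))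
  right
  have hy'2 : τ y * τ y = 1 := by rw [← map_mul, hy2, map_one]
  have hyi : y⁻¹ = y := inv_eq_of_mul_eq_one_left hy2
  have hy'i : (τ y)⁻¹ = τ y := inv_eq_of_mul_eq_one_left hy'2
  have hne : ⁅y, τ y⁆ ≠ 1 := by
    intro h
    have hc : y * τ y = τ y * y := commutatorElement_eq_one_iff_mul_comm.mp h
    apply hL
    rw [← H.hC, map_mul, map_inv, H.hτ2, hyi, hc, hy'i]
  refine ⟨y, τ y, S, H.hVα, H.card_V, H.central, hy2, hy'2, hne, hcm hy2, hcm hy'2, ?_⟩
  -- the kernel condition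
  intro c0 h1 h2
  by_contra hc0
  let K : Subgroup T := Subgroup.centralizer ({y, τ y} : Set T)
  have hmem : ∀ t, t ∈ K ↔ (y * t = t * y ∧ τ y * t = t * τ y) := by
    intro t
    rw [Subgroup.mem_centralizer_iff]
    simp
  haveI hVn : V.Normal := H.V_normal
  let Q := T ⧸ V
  let π : T →* Q := QuotientGroup.mk' V
  have hQ : IsPGroup 2 Q := S.p2.to_quotient V
  let f : Q →* Q := QuotientGroup.map V V τ.toMonoidHom (fun u hu => by
    have : τ u = u := (H.hC u).mpr hu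
    change u ∈ V.comap τ.toMonoidHom
    rw [Subgroup.mem_comap]
    change τ u ∈ V
    rwa [this])
  have hfπ : ∀ t, f (π t) = π (τ t) := fun t => rfl
  have hf2 : ∀ q, f (f q) = q := by
    intro q
    obtain ⟨t, rfl⟩ := QuotientGroup.mk'_surjective V q
    rw [hfπ, hfπ, H.hτ2]
  have hK : K.map π ≠ ⊥ := by
    intro h
    have h3 : π c0 ∈ K.map π := ⟨c0, (hmem c0).mpr ⟨
      (commutatorElement_eq_one_iff_mul_comm.mp h1).symm,
      (commutatorElement_eq_one_iff_mul_comm.mp h2).symm⟩, rfl⟩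
    rw [h] at h3
    exact hc0 ((QuotientGroup.eq_one_iff c0).mp (Subgroup.mem_bot.mp h3))
  have hfK : ∀ k ∈ K.map π, f k ∈ K.map π := by
    rintro _ ⟨c, hc, rfl⟩
    refine ⟨τ c, ?_, rfl⟩
    obtain ⟨h3, h4⟩ := (hmem c).mp hc
    change τ c ∈ K
    rw [hmem]
    constructor
    · have := congrArg τ h4
      simpa only [map_mul, H.hτ2] using this
    · have := congrArg τ h3
      simpa only [map_mul] using this
  obtain ⟨_, ⟨c, hc, rfl⟩, hq1, hq2⟩ := exists_fixed hQ _ hK f hf2 hfK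
  have hcV : c ∉ V := fun h => hq1 ((QuotientGroup.eq_one_iff c).mpr h)
  have hφc : c⁻¹ * τ c ∈ V := by
    have h3 : π (τ c) = π c := hq2
    have h4 : π (c⁻¹ * τ c) = 1 := by
      rw [map_mul, map_inv, h3]; group
    exact (QuotientGroup.eq_one_iff _).mp h4
  obtain ⟨h3, h4⟩ := (hmem c).mp hc
  have hcx : ⁅c, y⁆ = 1 := commutatorElement_eq_one_iff_mul_comm.mpr h3.symm
  -- `w₀`
  set w₀ := y * τ y with hw₀
  have hφ0 : w₀⁻¹ * τ w₀ = ⁅τ y, y⁆ := by
    rw [hw₀, map_mul, H.hτ2, mul_inv_rev, commutatorElement_def, hy'i, hyi]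
    group
  set c₀ := ⁅τ y, y⁆ with hc₀
  have hc₀V : c₀ ∈ V := hcm hy2 _
  have hc₀1 : c₀ ≠ 1 := by
    intro h
    apply hne
    rw [Fpf3.cm_swap (τ y) y, ← hc₀, h, inv_one]
  have hw0x : ⁅w₀, y⁆ = c₀ := by
    rw [hw₀, S.cm_mul_left, commutatorElement_self, one_mul]
  -- contradiction from a common value
  have hfin : ∀ w : T, w ∈ H.L → ⁅w, y⁆ ≠ 1 → c⁻¹ * τ c = w⁻¹ * τ w → False := by
    intro w hw hw1 he
    have h5 : w⁻¹ * c ∈ V := by
      have hcL : c ∈ H.L := hφc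
      exact H.phi_eq hcL he
    have h6 : c = w * (w⁻¹ * c) := by group
    have h7 : ⁅w⁻¹ * c, y⁆ = 1 := commutatorElement_eq_one_iff_mul_comm.mpr (H.central _ h5 y)
    rw [h6, S.cm_mul_left, h7, mul_one] at hcx
    exact hw1 hcx
  have hw0L : w₀ ∈ H.L := by
    rw [H.mem_L, hφ0]
    exact hc₀V
  have hαL : ∀ u ∈ H.L, α u ∈ H.L := by
    intro u hu
    rw [H.mem_L]
    have := H.hVα _ (H.mem_L.mp hu)
    rw [map_mul, map_inv, ← H.hτα] at this
    exact this
  rcases S.four_cases H.hVα H.card_V hc₀V hc₀1 hφc with h | h | h | h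
  · exact hcV (H.fixed_of_trivial h)
  · exact hfin w₀ hw0L (by rw [hw0x]; exact hc₀1) (by rw [h, hφ0])
  · refine hfin (α w₀) (hαL _ hw0L) ?_ ?_
    · rw [S.cm_map2, hw0x]
      exact Fpf3.map_ne_one _ (Fpf3.map_ne_one _ hc₀1)
    · rw [h, ← hφ0, map_mul, map_inv, H.hτα]
  · refine hfin (α (α w₀)) (hαL _ (hαL _ hw0L)) ?_ ?_
    · rw [S.cm_map2, S.cm_map2, hw0x]
      exact Fpf3.map_ne_one _ (Fpf3.map_ne_one _ (Fpf3.map_ne_one _ (Fpf3.map_ne_one _ hc₀1)))
    · rw [h, ← hφ0, map_mul, map_inv, map_mul, map_inv, H.hτα, H.hτα]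

end TauSetup

end Cfsg.Agent.Lib.TwoFusion.Hyp
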